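import Cfsg.Agent.Lib.Char.Descend
import Cfsg.Agent.Lib.Char.KernelSum
import Cfsg.Agent.Lib.Char.MaxDegree
import Cfsg.Agent.Lib.Char.Clifford
import Cfsg.Agent.Lib.Char.Ito
import Cfsg.Agent.Lib.GL2Char.DegreeGraphAux
import Cfsg.Agent.Lib.OddOrder.PF.S13_Mass
import Cfsg.Prelude.Def_DegreeGraph

/-!
# Degree primes: a vertex criterion, transfer to quotients and from normal subgroups
-/

set_option autoImplicit false
set_option linter.style.haveILetI false
set_option linter.unusedSectionVars false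

namespace Cfsg.Agent.DegreeGraphSmall

open Cfsg Cfsg.Agent
open scoped ComplexConjugate

universe u v

variable {G : Type u} [Group G] [Finite G]

theorem mem_charDegrees (χ : IrrCharacter G) : Char.degree χ ∈ charDegrees G :=
  ⟨χ, Char.charDegree_eq_degree χ⟩

theorem exists_of_mem_degreePrimes {r : ℕ} (h : r ∈ degreePrimes G) :
    ∃ χ : IrrCharacter G, r ∣ Char.degree χ := by
  obtain ⟨-, d, ⟨χ, rfl⟩, hd⟩ := h
  exact ⟨χ, by rwa [Char.charDegree_eq_degree] at hd⟩

theorem mem_degreePrimes {r : ℕ} (hr : r.Prime) {χ : IrrCharacter G} (h : r ∣ Char.degree χ) :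
    r ∈ degreePrimes G :=
  ⟨hr, _, mem_charDegrees χ, h⟩

theorem adj_of_dvd {r s : ℕ} (hr : r.Prime) (hs : s.Prime) (hne : r ≠ s) {χ : IrrCharacter G}
    (hrd : r ∣ Char.degree χ) (hsd : s ∣ Char.degree χ) : (degreeGraph G).Adj r s :=
  ⟨hne, hr, hs, _, mem_charDegrees χ, ((Nat.coprime_primes hr hs).2 hne).mul_dvd_of_dvd_of_dvd hrd hsd⟩

theorem exists_of_adj {r s : ℕ} (h : (degreeGraph G).Adj r s) :
    ∃ χ : IrrCharacter G, r * s ∣ Char.degree χ := by
  obtain ⟨-, -, -, d, ⟨χ, rfl⟩, hd⟩ := h
  exact ⟨χ, by rwa [Char.charDegree_eq_degree] at hd⟩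

/-- A vertex `r` leaves no normal abelian subgroup with index prime to `r`. -/
theorem false_of_comm_normal {r : ℕ} (hr : r ∈ degreePrimes G) (A : Subgroup G) [A.Normal]
    (hab : ∀ a ∈ A, ∀ b ∈ A, a * b = b * a) (hA : ¬ r ∣ A.index) : False := by
  haveI := Fintype.ofFinite G
  obtain ⟨χ, hχ⟩ := exists_of_mem_degreePrimes hr
  exact hA (hχ.trans (Char.degree_dvd_index_of_comm (N := A) hab χ))

theorem degree_inflate (K : Subgroup G) [K.Normal] (ψ : IrrCharacter (G ⧸ K)) :
    Char.degree (Char.inflate K ψ) = Char.degree ψ := by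
  apply Nat.cast_injective (R := ℂ)
  rw [← Char.apply_one_eq_degree, ← Char.apply_one_eq_degree]
  simp [Char.inflate]

theorem degree_irrCongr {H : Type v} [Group H] [Finite H] (e : G ≃* H) (χ : IrrCharacter G) :
    Char.degree (Char.irrCongr e χ) = Char.degree χ := by
  apply Nat.cast_injective (R := ℂ)
  rw [← Char.apply_one_eq_degree, ← Char.apply_one_eq_degree]
  simp [Char.irrCongr]

/-- A degree of a normal subgroup divides a degree of the group. -/
theorem exists_degree_dvd [Fintype G] (N : Subgroup G) [N.Normal] [Fintype N] (θ : IrrCharacter N) :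
    ∃ χ : IrrCharacter G, ∃ e : ℕ, e ≠ 0 ∧
      Char.degree χ = e * ((Char.orbitFinset N θ).card * Char.degree θ) := by
  obtain ⟨χ, hχ⟩ := Char.MaxDegree.exists_over N θ
  have hne : classInner (Char.resFun N χ.1) θ.1 ≠ 0 := Char.MaxDegree.classInner_ne_zero_symm hχ
  obtain ⟨e, he⟩ := Char.IsCharacter.exists_nat_classInner (Char.IsCharacter.restrict (Char.irr_isCharacter χ) N)
    (Char.irr_isCharacter θ)
  have he' : classInner (Char.resFun N χ.1) θ.1 = (e : ℂ) := he
  refine ⟨χ, e, fun h => hne (by rw [he', h, Nat.cast_zero]), ?_⟩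
  apply Nat.cast_injective (R := ℂ)
  push_cast
  rw [← Char.apply_one_eq_degree, ← Char.apply_one_eq_degree, Char.apply_one_eq_mul_card_orbit N χ θ hne, he']

theorem adj_of_normal (N : Subgroup G) [N.Normal] {r s : ℕ} (h : (degreeGraph N).Adj r s) :
    (degreeGraph G).Adj r s := by
  haveI := Fintype.ofFinite G
  haveI := Fintype.ofFinite N
  obtain ⟨θ, hθ⟩ := exists_of_adj h
  obtain ⟨χ, e, -, he⟩ := exists_degree_dvd N θ
  have hd : r * s ∣ Char.degree χ := he ▸ dvd_mul_of_dvd_right (dvd_mul_of_dvd_right hθ _) _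
  exact adj_of_dvd h.2.1 h.2.2.1 h.1 ((dvd_mul_right r s).trans hd) ((dvd_mul_left s r).trans hd)

theorem adj_of_quotient (K : Subgroup G) [K.Normal] {r s : ℕ} (h : (degreeGraph (G ⧸ K)).Adj r s) :
    (degreeGraph G).Adj r s := by
  obtain ⟨ψ, hψ⟩ := exists_of_adj h
  rw [← degree_inflate] at hψ
  exact adj_of_dvd h.2.1 h.2.2.1 h.1 ((dvd_mul_right r s).trans hψ) ((dvd_mul_left s r).trans hψ)

/-- An element of prime order `p` with centraliser of order `p` makes `p` a vertex once there are more
than `p` classes. -/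
theorem mem_degreePrimes_of_centralizer {p : ℕ} [hp : Fact p.Prime] {x : G} (hx : orderOf x = p)
    (hC : Nat.card (Subgroup.centralizer ({x} : Set G)) = p) (hk : p < Nat.card (ConjClasses G)) :
    p ∈ degreePrimes G := by
  classical
  haveI := Fintype.ofFinite G
  by_contra hnot
  set P := Subgroup.zpowers x
  haveI : Fintype P := Fintype.ofFinite P
  have hP : Nat.card P = p := by rw [Nat.card_zpowers, hx]
  haveI : IsCyclic P := isCyclic_of_prime_card hP
  have hcomm : ∀ a b : P, a * b = b * a := fun a b => mul_comm' a b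
  have hCP : Subgroup.centralizer ({x} : Set G) = P :=
    (Subgroup.eq_of_le_of_card_ge (Subgroup.zpowers_le.2 (Subgroup.mem_centralizer_singleton_iff.2 rfl))
      (by rw [hP, hC])).symm
  have hCy : ∀ y : P, y ≠ 1 → Nat.card (Subgroup.centralizer ({(y : G)} : Set G)) = p := by
    intro y hy
    rw [← hC]
    congr 1
    apply congrArg (fun K : Subgroup G => (K : Type u))
    have hgen : Subgroup.zpowers (y : G) = P := Subgroup.eq_of_le_of_card_ge (Subgroup.zpowers_le.2 y.2) (by
      rw [hP, Nat.card_zpowers]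
      have hd : orderOf (y : G) ∣ p := hP ▸ Subgroup.orderOf_dvd_natCard _ y.2
      rcases (Nat.dvd_prime hp.out).1 hd with h | h
      · exact absurd (Subtype.ext (orderOf_eq_one_iff.1 h)) hy
      · exact h.ge)
    ext g
    simp only [Subgroup.mem_centralizer_singleton_iff]
    constructor
    · intro hg
      obtain ⟨i, hi⟩ := Subgroup.mem_zpowers_iff.1 (hgen.ge (Subgroup.mem_zpowers x))
      rw [← hi]; exact Commute.zpow_right hg i
    · intro hg
      obtain ⟨i, hi⟩ := Subgroup.mem_zpowers_iff.1 (y.2 : (y : G) ∈ Subgroup.zpowers x)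
      rw [← hi]; exact Commute.zpow_right hg i
  have hlow : ∀ χ : IrrCharacter G, (p : ℝ) - 1 ≤
      ∑ y ∈ Finset.univ.filter (fun y : P => y ≠ 1), Complex.normSq (χ.1 (y : G)) := by
    intro χ
    rw [← hP]
    refine OddOrder.PF.card_sub_one_le_sum_normSq hcomm (f := fun y : P => χ.1 (y : G))
      (Char.IsCharacter.isGeneralized (Char.IsCharacter.restrict (Char.irr_isCharacter χ) P)) ?_
    by_contra hv
    push Not at hv
    obtain ⟨k, hk'⟩ := Char.IsCharacter.exists_nat_classInner (Char.IsCharacter.restrict (Char.irr_isCharacter χ) P)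
      (Char.irr_isCharacter (Char.trivialChar P))
    simp only [classInner, Char.trivialChar_apply, map_one, mul_one] at hk'
    rw [Finset.sum_eq_single (1 : P) (fun y _ hy => hv y hy) (by simp), Subgroup.coe_one,
      Char.apply_one_eq_degree, hP, inv_mul_eq_iff_eq_mul₀ (Nat.cast_ne_zero.2 hp.out.ne_zero)] at hk'
    exact hnot (mem_degreePrimes hp.out (χ := χ) ⟨k, by exact_mod_cast hk'⟩)
  have htot : ∑ χ : IrrCharacter G, ∑ y ∈ Finset.univ.filter (fun y : P => y ≠ 1),
      Complex.normSq (χ.1 (y : G)) = ((p : ℝ) - 1) * p := by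
    rw [Finset.sum_comm]
    have hone : ∀ y ∈ Finset.univ.filter (fun y : P => y ≠ 1),
        ∑ χ : IrrCharacter G, Complex.normSq (χ.1 (y : G)) = (p : ℝ) := by
      intro y hy
      have h := Char.sum_irr_mul_conj (y : G) (y : G)
      rw [if_pos (IsConj.refl _), hCy y (Finset.mem_filter.1 hy).2] at h
      apply Complex.ofReal_injective
      push_cast
      rw [← h]
      exact Finset.sum_congr rfl fun χ _ => (Complex.mul_conj _).symm
    rw [Finset.sum_congr rfl hone, Finset.sum_const, nsmul_eq_mul,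
      show (Finset.univ.filter fun y : P => y ≠ 1) = Finset.univ.erase 1 by ext; simp,
      Finset.card_erase_of_mem (Finset.mem_univ _), Finset.card_univ, ← Nat.card_eq_fintype_card, hP,
      Nat.cast_sub hp.out.one_le, Nat.cast_one]
  have hsum := Finset.sum_le_sum (s := (Finset.univ : Finset (IrrCharacter G))) fun χ _ => hlow χ
  rw [htot, Finset.sum_const, nsmul_eq_mul, Finset.card_univ, ← Nat.card_eq_fintype_card, Char.card_irr] at hsum
  have hp1 : (0 : ℝ) < (p : ℝ) - 1 := by
    have : (2 : ℝ) ≤ p := by exact_mod_cast hp.out.two_le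
    linarith
  have hkR : (p : ℝ) < (Nat.card (ConjClasses G) : ℝ) := by exact_mod_cast hk
  nlinarith

end Cfsg.Agent.DegreeGraphSmall
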