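import Cfsg.Agent.Lib.SmallSimple.Below3640.Orders
import Cfsg.Agent.Lib.Order5616.Main
import Cfsg.Agent.Lib.PSL2.Basic
import Cfsg.Agent.S0494
import Cfsg.Agent.S0495
import Cfsg.Agent.S0496
import Cfsg.Agent.S0497
import Cfsg.Agent.S0498
import Cfsg.Agent.S0252
import Cfsg.Agent.S0981
import Cfsg.Agent.S0983
import Cfsg.Agent.S0984
import Cfsg.Agent.S1011
import Cfsg.Agent.S1020
import Cfsg.Agent.S1021

/-!
# The non-abelian simple groups of order below 6000
-/

set_option autoImplicit false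
set_option linter.style.haveILetI false

namespace Cfsg.Agent.DegreeGraphSmall

open scoped MatrixGroups

universe u v

/-- The orders. -/
def orderList : List ℕ := [60, 168, 360, 504, 660, 1092, 2448, 2520, 3420, 4080, 5616]

theorem card_mem_orderList {S : Type u} [Group S] [Finite S] [IsSimpleGroup S] (hS : ¬ IsMulCommutative S)
    (hlt : Nat.card S < 6000) : Nat.card S ∈ orderList := by
  simp only [orderList, List.mem_cons, List.not_mem_nil, or_false]
  rcases le_or_gt (Nat.card S) 1092 with h | h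
  · rcases Cfsg.Agent.S0496.result hS h with h' | h' | h' | h' | h' | h' <;> simp [h']
  rcases le_or_gt (Nat.card S) 3640 with h2 | h2
  · rcases SmallSimple.Below3640.orders hS h h2 with h' | h' | h' <;> simp [h']
  · rcases Cfsg.Agent.S0983.result hS h2 (by omega) with h' | h' | h' | h' <;> first | omega | simp [h']

/-- The pairs order, field size of the groups `PSL(2, q)`. -/
def pslList : List (ℕ × ℕ) :=
  [(60, 4), (168, 7), (360, 9), (504, 8), (660, 11), (1092, 13), (2448, 17), (3420, 19), (4080, 16)]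

theorem exists_psl {S : Type u} [Group S] [Finite S] [IsSimpleGroup S] {n q : ℕ} (hnq : (n, q) ∈ pslList)
    (hS : Nat.card S = n) :
    ∃ (p : ℕ) (_ : Fact p.Prime) (k : ℕ) (_ : Fintype (GaloisField p k)),
      p ^ k = q ∧ Fintype.card (GaloisField p k) = q ∧ Nonempty (S ≃* PSL(2, GaloisField p k)) := by
  have key : ∀ (p k : ℕ) [Fact p.Prime], k ≠ 0 → p ^ k = q →
      (∀ [Fintype (GaloisField p k)], Fintype.card (GaloisField p k) = q →
        Nonempty (S ≃* PSL(2, GaloisField p k))) →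
      ∃ (p : ℕ) (_ : Fact p.Prime) (k : ℕ) (_ : Fintype (GaloisField p k)),
        p ^ k = q ∧ Fintype.card (GaloisField p k) = q ∧ Nonempty (S ≃* PSL(2, GaloisField p k)) := by
    intro p k hp hk hq h
    letI : Fintype (GaloisField p k) := Fintype.ofFinite _
    have hF : Fintype.card (GaloisField p k) = q := by rw [Fintype.card_eq_nat_card, GaloisField.card p k hk, hq]
    exact ⟨p, hp, k, inferInstance, hq, hF, h hF⟩
  haveI : Fact (Nat.Prime 2) := ⟨Nat.prime_two⟩
  haveI : Fact (Nat.Prime 3) := ⟨Nat.prime_three⟩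
  haveI : Fact (Nat.Prime 7) := ⟨by norm_num⟩
  haveI : Fact (Nat.Prime 11) := ⟨by norm_num⟩
  haveI : Fact (Nat.Prime 13) := ⟨by norm_num⟩
  haveI : Fact (Nat.Prime 17) := ⟨by norm_num⟩
  haveI : Fact (Nat.Prime 19) := ⟨by norm_num⟩
  simp only [pslList, List.mem_cons, List.not_mem_nil, or_false, Prod.mk.injEq] at hnq
  rcases hnq with ⟨rfl, rfl⟩ | ⟨rfl, rfl⟩ | ⟨rfl, rfl⟩ | ⟨rfl, rfl⟩ | ⟨rfl, rfl⟩ | ⟨rfl, rfl⟩ | ⟨rfl, rfl⟩ |
    ⟨rfl, rfl⟩ | ⟨rfl, rfl⟩
  · refine key 2 2 (by norm_num) (by norm_num) fun hF => ?_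
    obtain ⟨e⟩ := Cfsg.Agent.S0494.result hS
    obtain ⟨f⟩ := Cfsg.Agent.S0252.result hF
    exact ⟨e.trans f.symm⟩
  · exact key 7 1 one_ne_zero (by norm_num) fun hF => Cfsg.Agent.S0495.result hS hF
  · refine key 3 2 (by norm_num) (by norm_num) fun hF => ?_
    obtain ⟨e⟩ := Cfsg.Agent.S0497.result hS
    haveI := PSL2.psl_isSimpleGroup (F := GaloisField 3 2) (by omega)
    obtain ⟨f⟩ := Cfsg.Agent.S0497.result (G := PSL(2, GaloisField 3 2)) (by rw [PSL2.card_PSL, hF]; norm_num)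
    exact ⟨e.trans f.symm⟩
  · exact key 2 3 (by norm_num) (by norm_num) fun hF => Cfsg.Agent.S1011.result hS hF
  · exact key 11 1 one_ne_zero (by norm_num) fun hF =>
      Cfsg.Agent.S0498.result 11 (Or.inl rfl) (by rw [hS]; norm_num) hF
  · exact key 13 1 one_ne_zero (by norm_num) fun hF =>
      Cfsg.Agent.S0498.result 13 (Or.inr rfl) (by rw [hS]; norm_num) hF
  · exact key 17 1 one_ne_zero (by norm_num) fun hF => Cfsg.Agent.S1020.result hS hF
  · exact key 19 1 one_ne_zero (by norm_num) fun hF => Cfsg.Agent.S1021.result hS hF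
  · exact key 2 4 (by norm_num) (by norm_num) fun hF => Cfsg.Agent.S0981.result hS hF

/-- Non-abelian simple groups of equal order below 6000 are isomorphic. -/
theorem unique {G : Type u} [Group G] [Finite G] [IsSimpleGroup G] {S : Type v} [Group S] [Finite S]
    [IsSimpleGroup S] (hS : Nat.card S ∈ orderList) (hcard : Nat.card G = Nat.card S) : Nonempty (G ≃* S) := by
  have hpsl : ∀ n q : ℕ, (n, q) ∈ pslList → Nat.card S = n →
      (∀ (p k : ℕ) (p' k' : ℕ), p.Prime → p'.Prime → p ^ k = q → p' ^ k' = q → p = p' ∧ k = k') →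
      Nonempty (G ≃* S) := by
    intro n q hnq hn huniq
    obtain ⟨p, hp, k, _, hq, -, ⟨e⟩⟩ := exists_psl hnq (hcard.trans hn)
    obtain ⟨p', hp', k', _, hq', -, ⟨e'⟩⟩ := exists_psl hnq hn
    obtain ⟨rfl, rfl⟩ := huniq p k p' k' hp.out hp'.out hq hq'
    exact ⟨e.trans e'.symm⟩
  have huniq : ∀ q₀ : ℕ, (∃ r j, r.Prime ∧ q₀ = r ^ j ∧ j ≠ 0) → ∀ (p k p' k' : ℕ), p.Prime → p'.Prime →
      p ^ k = q₀ → p' ^ k' = q₀ → p = p' ∧ k = k' := by
    rintro q₀ ⟨r, j, hr, rfl, hj⟩ p k p' k' hp hp' h h'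
    have key : ∀ {a b : ℕ}, a.Prime → a ^ b = r ^ j → a = r ∧ b = j := fun {a b} ha hab => by
      obtain rfl : a = r := ((Nat.prime_dvd_prime_iff_eq hr ha).1
        (hr.dvd_of_dvd_pow (hab ▸ dvd_pow_self r hj))).symm
      exact ⟨rfl, Nat.pow_right_injective ha.two_le hab⟩
    obtain ⟨rfl, rfl⟩ := key hp h
    obtain ⟨rfl, rfl⟩ := key hp' h'
    exact ⟨rfl, rfl⟩
  simp only [orderList, List.mem_cons, List.not_mem_nil, or_false] at hS
  rcases hS with h | h | h | h | h | h | h | h | h | h | h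
  · exact hpsl 60 4 (by decide) h (huniq 4 ⟨2, 2, Nat.prime_two, rfl, by norm_num⟩)
  · exact hpsl 168 7 (by decide) h (huniq 7 ⟨7, 1, by norm_num, rfl, by norm_num⟩)
  · exact hpsl 360 9 (by decide) h (huniq 9 ⟨3, 2, Nat.prime_three, rfl, by norm_num⟩)
  · exact hpsl 504 8 (by decide) h (huniq 8 ⟨2, 3, Nat.prime_two, rfl, by norm_num⟩)
  · exact hpsl 660 11 (by decide) h (huniq 11 ⟨11, 1, by norm_num, rfl, by norm_num⟩)
  · exact hpsl 1092 13 (by decide) h (huniq 13 ⟨13, 1, by norm_num, rfl, by norm_num⟩)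
  · exact hpsl 2448 17 (by decide) h (huniq 17 ⟨17, 1, by norm_num, rfl, by norm_num⟩)
  · obtain ⟨e⟩ := Cfsg.Agent.S0984.result (hcard.trans h)
    obtain ⟨f⟩ := Cfsg.Agent.S0984.result h
    exact ⟨e.trans f.symm⟩
  · exact hpsl 3420 19 (by decide) h (huniq 19 ⟨19, 1, by norm_num, rfl, by norm_num⟩)
  · exact hpsl 4080 16 (by decide) h (huniq 16 ⟨2, 4, Nat.prime_two, rfl, by norm_num⟩)
  · exact Order5616.unique (hcard.trans h) h

end Cfsg.Agent.DegreeGraphSmall
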