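import Cfsg.Agent.Lib.DegreeGraphSmall.Vertices
import Cfsg.Agent.Lib.Char.DegreesOneP
import Cfsg.Agent.Lib.Char.Product
import Cfsg.Agent.Lib.GL2Char.Even
import Cfsg.Agent.Lib.PCore.Basic

/-!
# No group of order 360 with the degree graph of `A₆` has a section `A₅`
-/

set_option autoImplicit false
set_option linter.style.haveILetI false

namespace Cfsg.Agent.DegreeGraphSmall

open Cfsg Cfsg.Agent Subgroup
open scoped MatrixGroups

universe u

theorem degree_congr {A : Type*} [Group A] {χ : IrrCharacter A} {d : ℕ} (h : χ.1 1 = (d : ℂ)) :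
    Char.degree χ = d :=
  Nat.cast_injective (R := ℂ) (by rw [← Char.apply_one_eq_degree, h])

/-- The degrees of a simple group of order 60 are `1, 3, 3, 4, 5`. -/
theorem sixty_degrees {S : Type u} [Group S] [Finite S] [IsSimpleGroup S] (hS : Nat.card S = 60) :
    (∀ χ : IrrCharacter S, Char.degree χ = 1 ∨ Char.degree χ = 3 ∨ Char.degree χ = 4 ∨ Char.degree χ = 5) ∧
    (∀ χ ψ : IrrCharacter S, Char.degree χ = Char.degree ψ → χ ≠ ψ → Char.degree χ = 3) ∧
    Nat.card {χ : IrrCharacter S // Char.degree χ = 3} = 2 := by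
  classical
  obtain ⟨p, hp, k, _, hpk, hF, ⟨e⟩⟩ := exists_psl (n := 60) (q := 4) (by decide) hS
  obtain rfl : p = 2 := by
    have h2 : p ∣ 2 ^ 2 := by
      rw [show (2 : ℕ) ^ 2 = 4 from rfl, ← hpk]
      exact dvd_pow_self p (fun h => by rw [h, pow_zero] at hpk; omega)
    exact (Nat.prime_dvd_prime_iff_eq hp.out Nat.prime_two).1 (hp.out.dvd_of_dvd_pow h2)
  have hbot : Subgroup.center SL(2, GaloisField 2 k) = ⊥ := by
    apply card_eq_one.1
    rw [PSL2.card_center, hF]
    decide
  let f : S ≃* SL(2, GaloisField 2 k) :=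
    e.trans ((QuotientGroup.quotientMulEquivOfEq hbot).trans QuotientGroup.quotientBot)
  obtain ⟨c1, c4, c5, c3⟩ := GL2Char.card_degrees_SL (F := GaloisField 2 k) (by rw [hF])
  rw [hF] at c4 c5 c3
  let E := Char.irrCongr f
  have hEd : ∀ χ, Char.degree (E χ) = Char.degree χ := degree_irrCongr f
  have hcount : ∀ (d : ℕ) (c : ℂ), c = (d : ℂ) →
      Nat.card {φ : IrrCharacter SL(2, GaloisField 2 k) // φ.1 1 = c} =
        Nat.card {χ : IrrCharacter S // Char.degree χ = d} := by
    intro d c hc
    refine Nat.card_congr ((E.symm).subtypeEquiv fun φ => ?_)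
    rw [← hEd, Equiv.apply_symm_apply]
    exact ⟨fun h => degree_congr (h.trans hc), fun h => by rw [Char.apply_one_eq_degree, h, hc]⟩
  rw [hcount 1 1 (by norm_num)] at c1
  rw [hcount 4 ((4 : ℕ) : ℂ) rfl] at c4
  rw [hcount 5 (((4 : ℕ) : ℂ) + 1) (by norm_num)] at c5
  rw [hcount 3 (((4 : ℕ) : ℂ) - 1) (by norm_num)] at c3
  have hmem : ∀ χ : IrrCharacter S,
      Char.degree χ = 1 ∨ Char.degree χ = 3 ∨ Char.degree χ = 4 ∨ Char.degree χ = 5 := by
    intro χ
    rcases GL2Char.degree_mem_SL (E χ) with h | h | h | h <;>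
      rw [Char.apply_one_eq_degree, hEd] at h <;> (try rw [hF] at h) <;> push_cast at h <;> norm_num at h
    · exact Or.inl (by exact_mod_cast h)
    · exact Or.inr (Or.inl (by exact_mod_cast h))
    · exact Or.inr (Or.inr (Or.inl (by exact_mod_cast h)))
    · exact Or.inr (Or.inr (Or.inr (by exact_mod_cast h)))
  refine ⟨hmem, fun χ ψ hd hne => ?_, c3⟩
  have key : ∀ d, Nat.card {χ : IrrCharacter S // Char.degree χ = d} = 1 → Char.degree χ ≠ d := by
    intro d hd1 hχ
    haveI := (Nat.card_eq_one_iff_unique.1 hd1).1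
    exact hne (congrArg Subtype.val (Subsingleton.elim
      (⟨χ, hχ⟩ : {χ : IrrCharacter S // Char.degree χ = d}) ⟨ψ, hd ▸ hχ⟩))
  rcases hmem χ with h | h | h | h
  · exact absurd h (key 1 c1)
  · exact h
  · exact absurd h (key 4 c4)
  · exact absurd h (key 5 c5)

/-- If no degree is a multiple of six, a group with trivial `5'`-core, order dividing 360 and a normal
simple subgroup of order 60 equals it. -/
theorem eq_top_of_sixty {H : Type u} [Group H] [Finite H] (hH : Nat.card H ∣ 360)
    (L : Subgroup H) [L.Normal] [IsSimpleGroup L] (hL : Nat.card L = 60)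
    (hmin : ∀ M : Subgroup H, M.Normal → M ≠ ⊥ → L ≤ M) (hno : ¬ (degreeGraph H).Adj 2 3) : L = ⊤ := by
  classical
  haveI := Fintype.ofFinite H
  haveI := Fintype.ofFinite L
  haveI : Fact (Nat.Prime 5) := ⟨by norm_num⟩
  obtain ⟨hdeg, hsame, hthree⟩ := sixty_degrees hL
  -- every irreducible character of `L` is fixed
  have hfix : ∀ (θ : IrrCharacter L) (h : H), Char.conjChar L θ h = θ := by
    intro θ h
    by_contra hne
    have hdd : Char.degree (Char.conjChar L θ h) = Char.degree θ := degree_congr (by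
      rw [Char.conjChar_coe, Char.conjFun_apply_one, Char.apply_one_eq_degree])
    have h3 : Char.degree θ = 3 := hdd ▸ hsame _ _ hdd hne
    obtain ⟨χ, e, -, he⟩ := exists_degree_dvd L θ
    have horb : (Char.orbitFinset L θ).card = 2 := by
      refine le_antisymm ?_ ?_
      · rw [← hthree, Nat.card_eq_fintype_card, Fintype.card_subtype]
        refine Finset.card_le_card fun η hη => ?_
        obtain ⟨g, rfl⟩ := (Char.mem_orbitFinset L).1 hη
        refine Finset.mem_filter.2 ⟨Finset.mem_univ _, degree_congr ?_⟩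
        rw [Char.conjChar_coe, Char.conjFun_apply_one, Char.apply_one_eq_degree, h3]
      · refine Finset.one_lt_card.2 ⟨_, (Char.mem_orbitFinset L).2 ⟨h, rfl⟩, _,
          (Char.mem_orbitFinset L).2 ⟨1, ?_⟩, hne⟩
        exact Subtype.ext (by rw [Char.conjChar_coe, Char.conjFun_one])
    rw [horb, h3] at he
    exact hno (adj_of_dvd Nat.prime_two Nat.prime_three (by norm_num) (χ := χ)
      (he ▸ ⟨e * 3, by ring⟩) (he ▸ ⟨e * 2, by ring⟩))
  -- so conjugation preserves the classes of `L`
  have hclass : ∀ (h : H) (y : L), IsConj y (MulAut.conjNormal h y) := by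
    intro h y
    by_contra hnc
    have h1 := Char.sum_irr_mul_conj y (MulAut.conjNormal h y)
    rw [if_neg hnc] at h1
    have h2 := Char.sum_irr_mul_conj y y
    rw [if_pos (IsConj.refl y)] at h2
    have heq : ∀ θ : IrrCharacter L, θ.1 (MulAut.conjNormal h y) = θ.1 y := fun θ =>
      congrFun (congrArg Subtype.val (hfix θ h)) y
    rw [Finset.sum_congr rfl fun θ _ => by rw [heq θ], h2] at h1
    exact Nat.card_pos.ne' (Nat.cast_eq_zero.1 h1)
  obtain ⟨x₀, hx₀⟩ := exists_prime_orderOf_dvd_card' (G := L) 5 (by rw [hL]; norm_num)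
  set x : H := (x₀ : H)
  have hx : orderOf x = 5 := by rw [Subgroup.orderOf_coe, hx₀]
  -- every Sylow 5-subgroup lies in `L`
  have h5H : ∀ P : Sylow 5 H, Nat.card (P : Subgroup H) = 5 ∧ (P : Subgroup H) ≤ L := by
    intro P
    obtain ⟨c, hc⟩ := hH
    obtain ⟨d, hd⟩ : 60 ∣ Nat.card H := hL ▸ card_subgroup_dvd_card L
    have h5 : ¬ 5 ∣ 12 * d := fun h => by
      rw [hd] at hc
      obtain ⟨b, hb⟩ := h
      have : 360 = 25 * (b * c) := by rw [hc, show 60 * d = 5 * (12 * d) by ring, hb]; ring
      omega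
    have hcard : Nat.card (P : Subgroup H) = 5 := by
      have h := SmallSimple.card_sylow_subgroup (p := 5) (k := 1) (m := 12 * d) (by rw [hd]; ring) h5 P
      rwa [pow_one] at h
    refine ⟨hcard, ?_⟩
    have hxP : IsPGroup 5 (zpowers x) := IsPGroup.of_card (n := 1) (by rw [Nat.card_zpowers, hx, pow_one])
    obtain ⟨Q, hQ⟩ := hxP.exists_le_sylow
    have hQc : Nat.card (Q : Subgroup H) = 5 := by
      have h := SmallSimple.card_sylow_subgroup (p := 5) (k := 1) (m := 12 * d) (by rw [hd]; ring) h5 Q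
      rwa [pow_one] at h
    have hQL : (Q : Subgroup H) ≤ L := by
      rw [← eq_of_le_of_card_ge hQ (by rw [hQc, Nat.card_zpowers, hx])]
      exact zpowers_le.2 x₀.2
    obtain ⟨g, rfl⟩ := MulAction.exists_smul_eq H Q P
    intro z hz
    rw [Sylow.coe_subgroup_smul, Subgroup.mem_pointwise_smul_iff_inv_smul_mem, MulAut.smul_def, ← map_inv,
      MulAut.conj_apply, inv_inv] at hz
    have h := (inferInstance : L.Normal).conj_mem _ (hQL hz) g
    simpa [mul_assoc] using h
  have hsix : Nat.card (Sylow 5 H) ≤ 6 := by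
    have hL6 : Nat.card (Sylow 5 L) ≤ 6 := by
      have hd : Nat.card (Sylow 5 L) ∣ 12 := by
        obtain ⟨S⟩ := (inferInstance : Nonempty (Sylow 5 L))
        have h := S.card_dvd_index
        have hm := card_mul_index (S : Subgroup L)
        rw [SmallSimple.card_sylow_subgroup (p := 5) (k := 1) (m := 12) (by rw [hL]; norm_num) (by norm_num) S,
          hL] at hm
        rwa [show (S : Subgroup L).index = 12 by omega] at h
      have hmod := card_sylow_modEq_one 5 L
      have := Nat.le_of_dvd (by norm_num) hd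
      unfold Nat.ModEq at hmod
      generalize Nat.card (Sylow 5 L) = c at this hmod hd ⊢
      interval_cases c <;> omega
    refine le_trans ?_ hL6
    refine Nat.card_le_card_of_injective (fun P => P.subtype (h5H P).2) fun P Q h => ?_
    exact Sylow.subtype_injective h
  -- the action on the Sylow subgroups is faithful
  set act := MulAction.toPermHom H (Sylow 5 H)
  have hker : act.ker = ⊥ := by
    by_contra hne
    have hLk := hmin act.ker inferInstance hne
    obtain ⟨P⟩ := (inferInstance : Nonempty (Sylow 5 H))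
    haveI : ((P : Subgroup H).subgroupOf L).Normal := ⟨fun a ha g => by
      have hg : (g : H) • P = P := Equiv.Perm.ext_iff.1 (MonoidHom.mem_ker.1 (hLk g.2)) P
      have hN := Sylow.smul_eq_iff_mem_normalizer.1 hg
      exact (mem_normalizer_iff.1 hN (a : H)).1 ha⟩
    rcases (inferInstance : ((P : Subgroup H).subgroupOf L).Normal).eq_bot_or_eq_top with h | h
    · have := congrArg (fun K : Subgroup L => Nat.card K) h
      simp only [card_bot, Nat.card_congr (subgroupOfEquivOfLe (h5H P).2).toEquiv, (h5H P).1] at this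
      omega
    · have := congrArg (fun K : Subgroup L => Nat.card K) h
      simp only [card_top, Nat.card_congr (subgroupOfEquivOfLe (h5H P).2).toEquiv, (h5H P).1, hL] at this
      omega
  -- the centraliser of `x` is inside `L`
  have hCx : centralizer ({x} : Set H) ≤ zpowers x := by
    intro y hy
    have hyx : Commute y x := mem_centralizer_singleton_iff.1 hy
    obtain ⟨P, hP⟩ := (IsPGroup.of_card (n := 1) (p := 5) (G := zpowers x)
      (by rw [Nat.card_zpowers, hx, pow_one])).exists_le_sylow
    have hPx : zpowers x = P := eq_of_le_of_card_ge hP (by rw [(h5H P).1, Nat.card_zpowers, hx])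
    have hxfix : ∀ Q : Sylow 5 H, x • Q = Q → Q = P := fun Q hQ => by
      have hN := Sylow.smul_eq_iff_mem_normalizer.1 hQ
      have h2 : IsPGroup 5 ((Q : Subgroup H) ⊔ zpowers x : Subgroup H) :=
        IsPGroup.to_sup_of_normal_left' Q.isPGroup' (IsPGroup.of_card (n := 1)
          (by rw [Nat.card_zpowers, hx, pow_one])) (zpowers_le.2 hN)
      have hQeq : (Q : Subgroup H) ⊔ zpowers x = Q := Q.is_maximal' h2 le_sup_left
      exact Sylow.ext (hPx ▸ (eq_of_le_of_card_ge (sup_eq_left.1 hQeq)
        (by rw [(h5H Q).1, Nat.card_zpowers, hx])).symm)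
    have hyP : ∀ z, Commute z x → z • P = P := fun z hz => Sylow.smul_eq_iff_mem_normalizer.2 (by
      show z ∈ normalizer (((P : Subgroup H)) : Set H)
      rw [← hPx]
      exact centralizer_le_normalizer _ (mem_centralizer_iff.2 fun w hw => by
        obtain ⟨i, rfl⟩ := mem_zpowers_iff.1 hw
        exact (hz.zpow_right i).eq.symm))
    by_cases hall : ∀ Q : Sylow 5 H, Q = P
    · have hyk : y ∈ act.ker := MonoidHom.mem_ker.2 (Equiv.Perm.ext fun Q => by
        rw [hall Q]; exact hyP y hyx)
      rw [hker, mem_bot] at hyk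
      rw [hyk]; exact one_mem _
    push Not at hall
    obtain ⟨Q, hQ⟩ := hall
    -- the powers of `x` reach every other Sylow subgroup
    have hreach : ∀ R : Sylow 5 H, R ≠ P → ∃ i : Fin 5, x ^ (i : ℕ) • Q = R := by
      intro R hR
      by_contra hc
      push Not at hc
      let g : Fin 5 ⊕ Bool → Sylow 5 H := Sum.elim (fun i => x ^ (i : ℕ) • Q) (fun b => if b then P else R)
      have hne : ∀ i : ℕ, x ^ i • Q ≠ P := fun i h => hQ (by
        rw [← hyP (x ^ i) (Commute.pow_self x i)] at h
        exact MulAction.injective _ h)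
      have hinj : Function.Injective g := by
        have hkey : ∀ i j : Fin 5, (i : ℕ) < j → x ^ (i : ℕ) • Q ≠ x ^ (j : ℕ) • Q := fun i j hij h => by
          rw [show (j : ℕ) = (i : ℕ) + ((j : ℕ) - i) by omega, pow_add, mul_smul] at h
          have h' : x ^ ((j : ℕ) - i) • Q = Q := (MulAction.injective _ h).symm
          have hcop : ((j : ℕ) - i).Coprime (orderOf x) := by
            rw [hx]
            exact ((Nat.Prime.coprime_iff_not_dvd (by norm_num : Nat.Prime 5)).2 fun hd => by
              have := Nat.le_of_dvd (by omega) hd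
              omega).symm
          obtain ⟨m, hm⟩ := exists_pow_eq_self_of_coprime hcop
          refine hQ (hxfix Q ?_)
          rw [← hm]
          have hmem : x ^ ((j : ℕ) - i) ∈ MulAction.stabilizer H Q := h'
          exact pow_mem hmem m
        rintro (i | b) (j | c) h
        · rcases lt_trichotomy (i : ℕ) j with hl | hl | hl
          · exact absurd h (hkey i j hl)
          · exact congrArg Sum.inl (Fin.ext hl)
          · exact absurd h.symm (hkey j i hl)
        · cases c
          · exact absurd h (hc i)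
          · exact absurd h (hne i)
        · cases b
          · exact absurd h.symm (hc j)
          · exact absurd h.symm (hne j)
        · cases b <;> cases c <;> first | rfl | exact absurd h hR | exact absurd h.symm hR
      have := Nat.card_le_card_of_injective g hinj
      simp only [Nat.card_eq_fintype_card, Fintype.card_sum, Fintype.card_fin, Fintype.card_bool] at this hsix
      omega
    have hyQ : y • Q ≠ P := fun h => hQ (by
      rw [← hyP y hyx] at h
      exact MulAction.injective _ h)
    obtain ⟨i, hi⟩ := hreach _ hyQ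
    have hz : (x ^ (i : ℕ))⁻¹ * y ∈ act.ker := MonoidHom.mem_ker.2 (Equiv.Perm.ext fun R => by
      show ((x ^ (i : ℕ))⁻¹ * y) • R = R
      have hzx : Commute ((x ^ (i : ℕ))⁻¹ * y) x := ((Commute.pow_self x i).inv_left).mul_left hyx
      by_cases hR : R = P
      · rw [hR]; exact hyP _ hzx
      · obtain ⟨j, rfl⟩ := hreach R hR
        rw [← mul_smul, (hzx.pow_right (j : ℕ)).eq, mul_smul, mul_smul, ← hi, inv_smul_smul])
    rw [hker, mem_bot, inv_mul_eq_one] at hz
    rw [← hz]
    exact pow_mem (mem_zpowers x) _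
  refine (eq_top_iff' L).2 fun h => ?_
  obtain ⟨l, hl⟩ := isConj_iff.1 (hclass h x₀)
  have hl' : (l : H) * x * (l : H)⁻¹ = h * x * h⁻¹ := congrArg Subtype.val hl
  have hc : (l : H)⁻¹ * h ∈ centralizer ({x} : Set H) := mem_centralizer_singleton_iff.2 (by
    calc (l : H)⁻¹ * h * x = (l : H)⁻¹ * (h * x * h⁻¹) * h := by group
      _ = (l : H)⁻¹ * ((l : H) * x * (l : H)⁻¹) * h := by rw [hl']
      _ = x * ((l : H)⁻¹ * h) := by group)
  have hxL : zpowers x ≤ L := zpowers_le.2 x₀.2
  simpa using mul_mem l.2 (hxL (hCx hc))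

/-- A normal subgroup `K` of order 6 centralised by the elements of order 5, with simple quotient of
order 60, gives an edge `{2, 3}` or excludes the edge `{2, 5}`. -/
theorem false_of_sixty {G : Type u} [Group G] [Finite G] (hn : Nat.card G = 360) (K : Subgroup G) [K.Normal]
    [IsSimpleGroup (G ⧸ K)] (hQ : Nat.card (G ⧸ K) = 60)
    (hcent : ∀ y : G, orderOf y = 5 → K ≤ centralizer ({y} : Set G))
    (hno : ¬ (degreeGraph G).Adj 2 3) (hyes : (degreeGraph G).Adj 2 5) : False := by
  classical
  haveI := Fintype.ofFinite G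
  haveI : Fact (Nat.Prime 5) := ⟨by norm_num⟩
  have hK : Nat.card K = 6 := by
    have h := card_mul_index K
    rw [index_eq_card, hQ, hn] at h
    omega
  obtain ⟨x, hx⟩ := exists_prime_orderOf_dvd_card' (G := G) 5 (by rw [hn]; norm_num)
  set L : Subgroup G := normalClosure {x}
  have hKL : ∀ l ∈ L, ∀ k ∈ K, l * k = k * l := by
    have hle : L ≤ centralizer (K : Set G) := normalClosure_le_normal (Set.singleton_subset_iff.2
      (mem_centralizer_iff.2 fun k hk => mem_centralizer_singleton_iff.1 (hcent x hx hk)))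
    exact fun l hl k hk => (mem_centralizer_iff.1 (hle hl) k hk).symm
  have hxK : x ∉ K := fun h => by
    have h5 : (5 : ℕ) ∣ 6 := hK ▸ hx ▸ orderOf_dvd_natCard K h
    norm_num at h5
  haveI hmap : (L.map (QuotientGroup.mk' K)).Normal :=
    Normal.map inferInstance _ (QuotientGroup.mk'_surjective K)
  have htop : ∀ g : G, ∃ l ∈ L, ∃ k ∈ K, g = l * k := by
    intro g
    have hmem : (QuotientGroup.mk' K g) ∈ L.map (QuotientGroup.mk' K) := by
      rcases hmap.eq_bot_or_eq_top with h | h
      · exfalso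
        have hm : (QuotientGroup.mk' K x) ∈ L.map (QuotientGroup.mk' K) :=
          mem_map_of_mem _ (subset_normalClosure rfl)
        rw [h, mem_bot, QuotientGroup.mk'_apply, QuotientGroup.eq_one_iff] at hm
        exact hxK hm
      · rw [h]; exact mem_top _
    obtain ⟨l, hl, hlg⟩ := hmem
    exact ⟨l, hl, l⁻¹ * g, QuotientGroup.eq.1 hlg, by group⟩
  obtain ⟨χ, hχ⟩ := exists_of_adj hyes
  by_cases hKc : ∀ a ∈ K, ∀ b ∈ K, a * b = b * a
  · -- `K` is central, so the index of the centre is too small for degree ten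
    have hKZ : K ≤ center G := fun k hk => mem_center_iff.2 fun g => by
      obtain ⟨l, hl, k', hk', rfl⟩ := htop g
      rw [mul_assoc, hKc k' hk' k hk, ← mul_assoc, hKL l hl k hk, mul_assoc]
    have hsq := Char.sq_degree_le_index_center χ
    have hidx : (center G).index ≤ 60 := by
      refine Nat.le_of_dvd (by norm_num) ?_
      rw [← hQ, ← index_eq_card]
      exact index_dvd_of_le hKZ
    have h10 := Nat.le_of_dvd (Char.degree_pos χ) hχ
    have h100 : 10 ^ 2 ≤ Char.degree χ ^ 2 := Nat.pow_le_pow_left h10 2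
    norm_num at h100
    omega
  -- otherwise `L` and `K` split `G`
  push Not at hKc
  obtain ⟨a, ha, b, hb, hab⟩ := hKc
  have hKZ : ∀ k ∈ K, (∀ k' ∈ K, k * k' = k' * k) → k = 1 := by
    intro k hk hkc
    by_contra hk1
    set z : K := ⟨k, hk⟩
    have hz : z ∈ center K := mem_center_iff.2 fun g => Subtype.ext (hkc g g.2).symm
    have hidx := card_mul_index (center K)
    rw [hK] at hidx
    have h1 : 1 < Nat.card (center K) := Finite.one_lt_card_iff_nontrivial.2
      ⟨⟨⟨z, hz⟩, 1, fun h => hk1 (congrArg (fun w : center K => ((w : K) : G)) h)⟩⟩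
    haveI : IsCyclic (K ⧸ center K) := by
      have hi : (center K).index = 1 ∨ (center K).index = 2 ∨ (center K).index = 3 := by
        have h2 : 2 * (center K).index ≤ 6 := hidx ▸ Nat.mul_le_mul_right _ h1
        have h0 : (center K).index ≠ 0 := FiniteIndex.index_ne_zero
        omega
      rw [index_eq_card] at hi
      rcases hi with h | h | h
      · haveI := (Nat.card_eq_one_iff_unique.1 h).1; infer_instance
      · haveI : Fact (Nat.Prime 2) := ⟨Nat.prime_two⟩; exact isCyclic_of_prime_card h
      · haveI : Fact (Nat.Prime 3) := ⟨Nat.prime_three⟩; exact isCyclic_of_prime_card h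
    exact hab (congrArg Subtype.val (commutative_of_cyclic_center_quotient (QuotientGroup.mk' (center K))
      (by rw [QuotientGroup.ker_mk']) (⟨a, ha⟩ : K) ⟨b, hb⟩))
  have hdisj : ∀ y ∈ L, y ∈ K → y = 1 := fun y hyL hyK => hKZ y hyK fun k' hk' => hKL y hyL k' hk'
  let f : L × K →* G :=
    { toFun := fun z => (z.1 : G) * z.2
      map_one' := by simp
      map_mul' := fun z w => by
        show ((z.1 : G) * w.1) * ((z.2 : G) * w.2) = (z.1 : G) * z.2 * ((w.1 : G) * w.2)
        calc ((z.1 : G) * w.1) * ((z.2 : G) * w.2) = (z.1 : G) * ((w.1 : G) * z.2) * w.2 := by group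
          _ = (z.1 : G) * ((z.2 : G) * w.1) * w.2 := by rw [hKL w.1 w.1.2 z.2 z.2.2]
          _ = (z.1 : G) * z.2 * ((w.1 : G) * w.2) := by group }
  have hf : Function.Bijective f := by
    refine ⟨(injective_iff_map_eq_one f).2 fun z hz => ?_, fun g => ?_⟩
    · have h : (z.1 : G) * z.2 = 1 := hz
      have h1 : (z.1 : G) = 1 := hdisj _ z.1.2 (eq_inv_of_mul_eq_one_left h ▸ inv_mem z.2.2)
      rw [h1, one_mul] at h
      exact Prod.ext (Subtype.ext h1) (Subtype.ext h)
    · obtain ⟨l, hl, k, hk, rfl⟩ := htop g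
      exact ⟨(⟨l, hl⟩, ⟨k, hk⟩), rfl⟩
  let E : L × K ≃* G := MulEquiv.ofBijective f hf
  -- `L` maps onto the simple quotient
  have hqbij : Function.Bijective ((QuotientGroup.mk' K).comp L.subtype) := by
    refine ⟨(injective_iff_map_eq_one _).2 fun l hl => Subtype.ext (hdisj _ l.2 ?_), fun q => ?_⟩
    · exact (QuotientGroup.eq_one_iff _).1 hl
    · obtain ⟨g, rfl⟩ := QuotientGroup.mk_surjective q
      obtain ⟨l, hl, k, hk, rfl⟩ := htop g
      exact ⟨⟨l, hl⟩, (QuotientGroup.mk_mul_of_mem _ hk).symm⟩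
  obtain ⟨-, -, h3⟩ := sixty_degrees (S := G ⧸ K) hQ
  obtain ⟨⟨θ', hθ'⟩⟩ : Nonempty {θ : IrrCharacter (G ⧸ K) // Char.degree θ = 3} :=
    (Nat.card_pos_iff.1 (h3 ▸ two_pos)).1
  set θ := Char.irrCongr (MulEquiv.ofBijective _ hqbij).symm θ'
  have hθ : Char.degree θ = 3 := (degree_irrCongr _ θ').trans hθ'
  -- a nonlinear character of `K` has degree two
  haveI := Fintype.ofFinite K
  obtain ⟨ψ, hψ⟩ : ∃ ψ : IrrCharacter K, Char.degree ψ = 2 := by
    obtain ⟨ψ, hψ⟩ : ∃ ψ : IrrCharacter K, ψ.1 1 ≠ 1 := by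
      by_contra hc
      push Not at hc
      exact hab (congrArg Subtype.val (Char.forall_apply_one_iff_comm.1 hc (⟨a, ha⟩ : K) ⟨b, hb⟩))
    refine ⟨ψ, ?_⟩
    have h1 : Char.degree ψ ≠ 1 := fun h => hψ (by rw [Char.apply_one_eq_degree, h, Nat.cast_one])
    have hd : Char.degree ψ ∣ 6 := hK ▸ Char.degree_dvd_natCard ψ
    have hsq : Char.degree ψ ^ 2 ≤ 6 := by
      have h := Char.sum_degree_sq (G := K)
      rw [hK] at h
      exact h ▸ Finset.single_le_sum (f := fun χ : IrrCharacter K => Char.degree χ ^ 2)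
        (fun _ _ => Nat.zero_le _) (Finset.mem_univ ψ)
    have hp := Char.degree_pos ψ
    have hle : Char.degree ψ ≤ 2 := by
      by_contra h
      have := Nat.pow_le_pow_left (show 3 ≤ Char.degree ψ by omega) 2
      norm_num at this
      omega
    omega
  set φ : IrrCharacter (L × K) := ⟨_, Char.isIrrCharacter_prod_mul θ.2 ψ.2⟩
  have hφ : Char.degree φ = 6 := degree_congr (by
    show θ.1 (1 : L × K).1 * ψ.1 (1 : L × K).2 = _
    rw [Prod.fst_one, Prod.snd_one, Char.apply_one_eq_degree, Char.apply_one_eq_degree, hθ, hψ]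
    norm_num)
  exact hno (adj_of_dvd Nat.prime_two Nat.prime_three (by norm_num) (χ := Char.irrCongr E φ)
    (by rw [degree_irrCongr, hφ]; norm_num) (by rw [degree_irrCongr, hφ]; norm_num))

end Cfsg.Agent.DegreeGraphSmall
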