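import Cfsg.Agent.Lib.DegreeGraphSmall.Coprime
import Cfsg.Agent.Lib.DegreeGraphSmall.Sixty

/-!
# A group with the order and degree graph of a simple group of order below 6000 is simple
-/

set_option autoImplicit false
set_option linter.style.haveILetI false

namespace Cfsg.Agent.DegreeGraphSmall

open Cfsg Cfsg.Agent Subgroup

universe u

/-- The order, the prime dividing it once, and the exceptional prime power congruent to one. -/
def data : List (ℕ × ℕ × ℕ) :=
  [(60, 5, 0), (168, 7, 8), (360, 5, 0), (504, 7, 8), (660, 11, 0), (1092, 13, 0), (2448, 17, 0), (2520, 7, 8),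
    (3420, 19, 0), (4080, 17, 0), (5616, 13, 27)]

theorem exists_data {n : ℕ} (hn : n ∈ orderList) : ∃ p q₀, (n, p, q₀) ∈ data := by
  simp only [orderList, List.mem_cons, List.not_mem_nil, or_false] at hn
  rcases hn with rfl | rfl | rfl | rfl | rfl | rfl | rfl | rfl | rfl | rfl | rfl <;>
    simp [data]

theorem data_facts {n p q₀ : ℕ} (h : (n, p, q₀) ∈ data) :
    p.Prime ∧ p ∣ n ∧ ¬ p ∣ n / p ∧ n ∣ 2 ^ 4 * 3 ^ 3 * 5 * 7 * 11 * 13 * 17 * 19 ∧
      (∀ r ∈ List.range 20, ∀ i ∈ List.range 5, Nat.Prime r → r ≠ p → n % r ^ (i + 1) = 0 →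
        r ^ (i + 1) % p = 1 → r ^ (i + 1) = q₀ ∧ ¬ n % r ^ (i + 2) = 0) ∧
      (∀ k ∈ orderList, k ∣ n → p ∣ k → k = n ∨ (n, k) ∈ [(360, 60), (504, 168), (2520, 168), (2520, 504)]) := by
  simp only [data, List.mem_cons, List.not_mem_nil, or_false, Prod.mk.injEq] at h
  rcases h with ⟨rfl, rfl, rfl⟩ | ⟨rfl, rfl, rfl⟩ | ⟨rfl, rfl, rfl⟩ | ⟨rfl, rfl, rfl⟩ | ⟨rfl, rfl, rfl⟩ |
    ⟨rfl, rfl, rfl⟩ | ⟨rfl, rfl, rfl⟩ | ⟨rfl, rfl, rfl⟩ | ⟨rfl, rfl, rfl⟩ | ⟨rfl, rfl, rfl⟩ | ⟨rfl, rfl, rfl⟩ <;>
    (refine ⟨by norm_num, by norm_num, by norm_num, by norm_num, ?_, ?_⟩ <;> decide +kernel)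

theorem exceptional {n p q₀ r i : ℕ} (h : (n, p, q₀) ∈ data) (hr : r.Prime) (hrp : r ≠ p)
    (hd : r ^ (i + 1) ∣ n) (h1 : r ^ (i + 1) % p = 1) : r ^ (i + 1) = q₀ ∧ ¬ r ^ (i + 2) ∣ n := by
  obtain ⟨-, -, -, hN, hdec, -⟩ := data_facts h
  set N := 2 ^ 4 * 3 ^ 3 * 5 * 7 * 11 * 13 * 17 * 19
  have hlist : ∀ r ∈ List.range 20, Nat.Prime r → ¬ N % r ^ 6 = 0 := by decide +kernel
  have hr20 : r < 20 := by
    have hrN : r ∣ N := ((dvd_pow_self r (Nat.succ_ne_zero i)).trans hd).trans hN
    by_contra hge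
    have key : ∀ (a b : ℕ), a.Prime → r ∣ a ^ b → r = a := fun a b ha hab =>
      (Nat.prime_dvd_prime_iff_eq hr ha).1 (hr.dvd_of_dvd_pow hab)
    rcases hr.dvd_mul.1 hrN with hrN | h19
    · rcases hr.dvd_mul.1 hrN with hrN | h17
      · rcases hr.dvd_mul.1 hrN with hrN | h13
        · rcases hr.dvd_mul.1 hrN with hrN | h11
          · rcases hr.dvd_mul.1 hrN with hrN | h7
            · rcases hr.dvd_mul.1 hrN with hrN | h5
              · rcases hr.dvd_mul.1 hrN with h2 | h3
                · have := key 2 4 Nat.prime_two h2; omega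
                · have := key 3 3 Nat.prime_three h3; omega
              · have := Nat.le_of_dvd (by norm_num) h5; omega
            · have := Nat.le_of_dvd (by norm_num) h7; omega
          · have := Nat.le_of_dvd (by norm_num) h11; omega
        · have := Nat.le_of_dvd (by norm_num) h13; omega
      · have := Nat.le_of_dvd (by norm_num) h17; omega
    · have := Nat.le_of_dvd (by norm_num) h19; omega
  have hi : i < 5 := by
    by_contra hge
    exact hlist r (List.mem_range.2 hr20) hr
      (Nat.mod_eq_zero_of_dvd (((pow_dvd_pow r (show 6 ≤ i + 1 by omega)).trans hd).trans hN))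
  obtain ⟨ha, hb⟩ := hdec r (List.mem_range.2 hr20) i (List.mem_range.2 hi) hr hrp (Nat.mod_eq_zero_of_dvd hd) h1
  exact ⟨ha, fun h' => hb (Nat.mod_eq_zero_of_dvd h')⟩

/-- A group whose degree primes are all divisors of an order in the list, with the graph conditions of the
simple group in three cases, is simple. -/
theorem isSimple {G : Type u} [Group G] [Finite G] {n : ℕ} (hn : n ∈ orderList) (hG : Nat.card G = n)
    (hV : ∀ r : ℕ, r.Prime → r ∣ n → r ∈ degreePrimes G)
    (h360 : n = 360 → ¬ (degreeGraph G).Adj 2 3 ∧ (degreeGraph G).Adj 2 5)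
    (h504 : n = 504 → ¬ (degreeGraph G).Adj 2 3) : IsSimpleGroup G := by
  classical
  obtain ⟨p, q₀, hdata⟩ := exists_data hn
  obtain ⟨hp, hpn, hpm, -, -, horders⟩ := data_facts hdata
  haveI := Fact.mk hp
  haveI := Fintype.ofFinite G
  have hnm : n = p * (n / p) := (Nat.mul_div_cancel' hpn).symm
  set K := pPrimeCore p G
  have hKp : ¬ p ∣ Nat.card K := PCore.not_dvd_card_pPrimeCore
  have hcent : ∀ y : G, orderOf y = p → K ≤ centralizer ({y} : Set G) := fun y hy =>
    (centralizes_or_exists hG hnm hpm (fun r i hr hrp hd h1 => exceptional hdata hr hrp hd h1) hy K hKp).resolve_right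
      fun ⟨r, A, hr, hrn, hA, hab, hidx⟩ => by
        haveI := hA
        exact false_of_comm_normal (hV r hr hrn) A hab hidx
  obtain ⟨x, hx⟩ := exists_prime_orderOf_dvd_card' (G := G) p (hG ▸ hpn)
  have hxK : x ∉ K := fun h => hKp (hx ▸ orderOf_dvd_natCard K h)
  -- the quotient
  have hcore : pPrimeCore p (G ⧸ K) = ⊥ := PCore.pPrimeCore_quotient_self_eq_bot
  have hmul := card_mul_index K
  rw [index_eq_card, hG] at hmul
  have hQn : Nat.card (G ⧸ K) ∣ n := Dvd.intro_left _ hmul
  have hQp : p ∣ Nat.card (G ⧸ K) := (hp.dvd_mul.1 (hmul ▸ hpn)).resolve_left hKp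
  have hQp2 : ¬ p * p ∣ Nat.card (G ⧸ K) := fun h => hpm (by
    obtain ⟨c, hc⟩ := h.trans hQn
    rw [hc, mul_assoc, Nat.mul_div_cancel_left _ hp.pos]
    exact dvd_mul_right _ _)
  set L : Subgroup (G ⧸ K) := normalClosure {(x : G ⧸ K)}
  have hxbar : orderOf (x : G ⧸ K) = p := by
    refine orderOf_eq_prime ?_ fun h => hxK ((QuotientGroup.eq_one_iff x).1 h)
    rw [← QuotientGroup.mk_pow, show x ^ p = 1 from orderOf_dvd_iff_pow_eq_one.1 hx.dvd, QuotientGroup.mk_one]
  have hxL : (x : G ⧸ K) ∈ L := subset_normalClosure rfl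
  -- `L` is in every non-trivial normal subgroup
  have hmin : ∀ M : Subgroup (G ⧸ K), M.Normal → M ≠ ⊥ → L ≤ M := by
    intro M hM hne
    refine normalClosure_le_normal (Set.singleton_subset_iff.2 ?_)
    have hpM : p ∣ Nat.card M := by
      by_contra h
      exact hne (le_bot_iff.1 (hcore ▸ PCore.le_pPrimeCore (hp.coprime_iff_not_dvd.2 h).symm))
    obtain ⟨m, hm⟩ := exists_prime_orderOf_dvd_card' (G := M) p hpM
    rw [← Subgroup.orderOf_coe] at hm
    have hv : (Nat.card (G ⧸ K)).factorization p = 1 := by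
      obtain ⟨c, hc⟩ := hQp
      exact SmallSimple.factorization_mul_eq hp (by rw [pow_one, hc]) fun h => hQp2 (hc ▸ mul_dvd_mul_left p h)
    let P : Sylow p (G ⧸ K) := Sylow.ofCard (zpowers (x : G ⧸ K)) (by rw [Nat.card_zpowers, hxbar, hv, pow_one])
    let Q : Sylow p (G ⧸ K) := Sylow.ofCard (zpowers (m : G ⧸ K)) (by rw [Nat.card_zpowers, hm, hv, pow_one])
    obtain ⟨g, hg⟩ := MulAction.exists_smul_eq (G ⧸ K) Q P
    have hxP : (x : G ⧸ K) ∈ ((g • Q : Sylow p (G ⧸ K)) : Subgroup (G ⧸ K)) := by rw [hg]; exact mem_zpowers _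
    rw [Sylow.coe_subgroup_smul, Subgroup.mem_pointwise_smul_iff_inv_smul_mem, MulAut.smul_def, ← map_inv,
      MulAut.conj_apply, inv_inv] at hxP
    have h := hM.conj_mem _ (zpowers_le.2 m.2 hxP) g
    simpa [mul_assoc] using h
  have hpL : p ∣ Nat.card L := hxbar.symm.dvd.trans (orderOf_dvd_natCard L hxL)
  -- `L` is simple
  haveI hsimple : IsSimpleGroup L := by
    haveI : Nontrivial L := Finite.one_lt_card_iff_nontrivial.1
      (lt_of_lt_of_le hp.one_lt (Nat.le_of_dvd Nat.card_pos hpL))
    refine ⟨fun M hM => or_iff_not_imp_left.2 fun hne => ?_⟩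
    have hpM : p ∣ Nat.card M := by
      by_contra h
      have hcL : pPrimeCore p L = ⊥ := PCore.pPrimeCore_eq_bot_of_normal L hcore
      exact hne (le_bot_iff.1 (hcL ▸ PCore.le_pPrimeCore (hp.coprime_iff_not_dvd.2 h).symm))
    obtain ⟨m, hm⟩ := exists_prime_orderOf_dvd_card' (G := M) p hpM
    rw [← Subgroup.orderOf_coe] at hm
    have hv : (Nat.card L).factorization p = 1 := by
      obtain ⟨c, hc⟩ := hpL
      exact SmallSimple.factorization_mul_eq hp (by rw [pow_one, hc]) fun h =>
        hQp2 ((hc ▸ mul_dvd_mul_left p h).trans (card_subgroup_dvd_card L))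
    -- every element of order `p` of `L` is in `M`
    have hall : ∀ y : L, orderOf y = p → y ∈ M := by
      intro y hy
      let P : Sylow p L := Sylow.ofCard (zpowers y) (by rw [Nat.card_zpowers, hy, hv, pow_one])
      let Q : Sylow p L := Sylow.ofCard (zpowers (m : L)) (by rw [Nat.card_zpowers, hm, hv, pow_one])
      obtain ⟨g, hg⟩ := MulAction.exists_smul_eq L Q P
      have hyP : y ∈ ((g • Q : Sylow p L) : Subgroup L) := by rw [hg]; exact mem_zpowers _
      rw [Sylow.coe_subgroup_smul, Subgroup.mem_pointwise_smul_iff_inv_smul_mem, MulAut.smul_def, ← map_inv,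
        MulAut.conj_apply, inv_inv] at hyP
      have h := hM.conj_mem _ (zpowers_le.2 m.2 hyP) g
      simpa [mul_assoc] using h
    rw [eq_top_iff]
    intro l _
    have hle : L ≤ M.map L.subtype := by
      have hconj : ∀ y ∈ Group.conjugatesOfSet ({(x : G ⧸ K)} : Set (G ⧸ K)), y ∈ M.map L.subtype := by
        intro y hy
        have hyL : y ∈ L := conjugatesOfSet_subset_normalClosure hy
        obtain ⟨a, rfl, ha⟩ := Group.mem_conjugatesOfSet_iff.1 hy
        refine ⟨⟨y, hyL⟩, hall _ ?_, rfl⟩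
        obtain ⟨c, rfl⟩ := isConj_iff.1 ha
        rw [← Subgroup.orderOf_coe]
        exact (MulEquiv.orderOf_eq (MulAut.conj c) (x : G ⧸ K)).trans hxbar
      exact (closure_le _).2 hconj
    obtain ⟨z, hz, hzl⟩ := hle l.2
    rwa [← Subtype.ext (hzl : (z : G ⧸ K) = l)]
  have hLn : Nat.card L ∣ n := (card_subgroup_dvd_card L).trans hQn
  by_cases hLc : IsMulCommutative L
  · -- then `x` generates a normal abelian Sylow subgroup
    exfalso
    haveI := hLc
    have hprime := CharInt.card_prime_of_simple_comm (G := L) (fun a b => mul_comm' a b)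
    have hLz : zpowers (x : G ⧸ K) = L := eq_of_le_of_card_ge (zpowers_le.2 hxL) (by
      rw [Nat.card_zpowers, hxbar]
      exact ((Nat.prime_dvd_prime_iff_eq hp hprime).1 hpL).ge)
    haveI hA : (zpowers x).Normal := by
      have hgen : ∀ g : G, g * x * g⁻¹ ∈ zpowers x := by
        intro g
        have hmem : ((g * x * g⁻¹ : G) : G ⧸ K) ∈ L := by
          rw [QuotientGroup.mk_mul, QuotientGroup.mk_mul, QuotientGroup.mk_inv]
          exact (inferInstance : L.Normal).conj_mem _ hxL _
        rw [← hLz] at hmem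
        obtain ⟨i, hi⟩ := mem_zpowers_iff.1 hmem
        rw [← QuotientGroup.mk_zpow] at hi
        have hk := QuotientGroup.eq.1 hi
        set k := (x ^ i)⁻¹ * (g * x * g⁻¹) with hkdef
        have hkx : Commute k x := mem_centralizer_singleton_iff.1 (hcent x hx hk)
        have hpow : k ^ p = 1 := by
          have he : g * x * g⁻¹ = x ^ i * k := by rw [hkdef]; group
          have h1 : (g * x * g⁻¹) ^ p = 1 := by
            rw [conj_pow, ← hx, pow_orderOf_eq_one]; group
          have h2 : (x ^ i) ^ p = 1 := by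
            rw [← zpow_natCast, ← zpow_mul, mul_comm, zpow_mul, zpow_natCast, ← hx, pow_orderOf_eq_one, one_zpow]
          rw [he, (hkx.symm.zpow_left i).mul_pow, h2, one_mul] at h1
          exact h1
        have hk1 : k = 1 := by
          rcases (Nat.dvd_prime hp).1 (orderOf_dvd_of_pow_eq_one hpow) with h | h
          · exact orderOf_eq_one_iff.1 h
          · exact absurd (h ▸ orderOf_dvd_natCard K hk) hKp
        exact mem_zpowers_iff.2 ⟨i, inv_mul_eq_one.1 hk1⟩
      exact ⟨fun y hy g => by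
        obtain ⟨i, rfl⟩ := mem_zpowers_iff.1 hy
        rw [← conj_zpow]; exact zpow_mem (hgen g) i⟩
    refine false_of_comm_normal (hV p hp hpn) (zpowers x) (fun a ha b hb => ?_) ?_
    · exact congrArg Subtype.val (mul_comm' (⟨a, ha⟩ : zpowers x) ⟨b, hb⟩)
    · have h := card_mul_index (zpowers x)
      rw [Nat.card_zpowers, hx, hG] at h
      rw [← h, Nat.mul_div_cancel_left _ hp.pos] at hpm
      exact hpm
  have hnlt : n < 6000 := by
    simp only [orderList, List.mem_cons, List.not_mem_nil, or_false] at hn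
    omega
  have hnpos : 0 < n := hG ▸ Nat.card_pos
  have hk := card_mem_orderList hLc (lt_of_le_of_lt (Nat.le_of_dvd hnpos hLn) hnlt)
  rcases horders _ hk hLn hpL with heq | hrest
  · -- `L` is everything
    have hQ : Nat.card (G ⧸ K) = n :=
      Nat.dvd_antisymm hQn (heq ▸ card_subgroup_dvd_card L)
    have hKbot : K = ⊥ := card_eq_one.1 (by rw [hQ] at hmul; exact (Nat.mul_eq_right hnpos.ne').1 hmul)
    have hLtop : L = ⊤ := eq_top_of_card_eq L (by rw [heq, hQ])
    exact (((topEquiv.symm.trans (MulEquiv.subgroupCongr hLtop.symm)).symm.trans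
      ((QuotientGroup.quotientMulEquivOfEq hKbot).trans QuotientGroup.quotientBot)).symm).isSimpleGroup
  exfalso
  simp only [List.mem_cons, List.not_mem_nil, or_false, Prod.mk.injEq] at hrest
  rcases hrest with ⟨rfl, hk60⟩ | ⟨rfl, hk168⟩ | h2520
  · -- `n = 360`
    obtain rfl : p = 5 := by
      simp [data] at hdata
      omega
    obtain ⟨hno, hyes⟩ := h360 rfl
    have hLtop : L = ⊤ := eq_top_of_sixty hQn L hk60 hmin fun h => hno (adj_of_quotient K h)
    haveI : IsSimpleGroup (G ⧸ K) := (topEquiv.symm.trans (MulEquiv.subgroupCongr hLtop.symm)).isSimpleGroup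
    exact false_of_sixty hG K (by rw [← card_top, ← hLtop, hk60]) hcent hno hyes
  · -- `n = 504`
    have h23 : (degreeGraph L).Adj 2 3 := by
      rw [(psl_graph (S := L) (n := 168) (q := 7) (by decide) hk168).2]
      exact ⟨by norm_num, Nat.prime_two, Nat.prime_three, by norm_num⟩
    exact h504 rfl (adj_of_quotient K (adj_of_normal L h23))
  · -- `n = 2520`
    have h2520' : n = 2520 ∧ ¬ 5 ∣ Nat.card L := by
      rcases h2520 with ⟨rfl, h⟩ | ⟨rfl, h⟩ <;> exact ⟨rfl, by rw [h]; norm_num⟩
    obtain ⟨rfl, h5L⟩ := h2520'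
    obtain rfl : p = 7 := by
      simp [data] at hdata
      omega
    haveI : Fact (Nat.Prime 5) := ⟨by norm_num⟩
    by_cases h5K : 5 ∣ Nat.card K
    · -- a normal Sylow 5-subgroup
      obtain ⟨S⟩ := (inferInstance : Nonempty (Sylow 5 K))
      have hKdiv : Nat.card K ∣ 15 := by
        have hLQ : Nat.card L ∣ Nat.card (G ⧸ K) := card_subgroup_dvd_card L
        have h : Nat.card K * Nat.card L ∣ 2520 := hmul ▸ mul_dvd_mul_left _ hLQ
        rcases h2520 with ⟨-, hL⟩ | ⟨-, hL⟩ <;> rw [hL] at h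
        · exact (Nat.mul_dvd_mul_iff_right (by norm_num : 0 < 168)).1 h
        · exact ((Nat.mul_dvd_mul_iff_right (by norm_num : 0 < 504)).1
            (show Nat.card K * 504 ∣ 5 * 504 from h)).trans (by norm_num)
      have hone : Nat.card (Sylow 5 K) = 1 := by
        have hd : Nat.card (Sylow 5 K) ∣ 15 := (S.card_dvd_index.trans (index_dvd_card _)).trans hKdiv
        have hmod := card_sylow_modEq_one 5 K
        have := Nat.le_of_dvd (by norm_num) hd
        unfold Nat.ModEq at hmod
        generalize Nat.card (Sylow 5 K) = c at this hmod hd ⊢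
        interval_cases c <;> omega
      haveI : Subsingleton (Sylow 5 K) := (Nat.card_eq_one_iff_unique.1 hone).1
      haveI := S.characteristic_of_subsingleton
      have hS5 : Nat.card (S : Subgroup K) = 5 := by
        obtain ⟨c, hc⟩ := h5K
        have h5c : ¬ 5 ∣ c := fun h => by
          have hd := hc ▸ hKdiv
          have := Nat.le_of_dvd (by norm_num) hd
          obtain ⟨d, rfl⟩ := h
          have : d = 0 := by omega
          subst this
          norm_num at hd
        have h := SmallSimple.card_sylow_subgroup (p := 5) (k := 1) (m := c) (by rw [pow_one, hc]) h5c S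
        rwa [pow_one] at h
      set A := (S : Subgroup K).map K.subtype
      have hA : Nat.card A = 5 := by rw [card_map_of_injective Subtype.coe_injective, hS5]
      haveI : IsCyclic A := isCyclic_of_prime_card hA
      refine false_of_comm_normal (hV 5 (by norm_num) (by norm_num)) A
        (fun a ha b hb => congrArg Subtype.val (mul_comm' (⟨a, ha⟩ : A) ⟨b, hb⟩)) ?_
      have h := card_mul_index A
      rw [hA, hG] at h
      rw [show A.index = 504 by omega]
      norm_num
    · -- an element of order five centralises `L`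
      have h5Q : 5 ∣ Nat.card (G ⧸ K) :=
        ((Nat.Prime.dvd_mul (by norm_num : Nat.Prime 5)).1 (hmul ▸ (by norm_num : 5 ∣ 2520))).resolve_left h5K
      obtain ⟨y, hy⟩ := exists_prime_orderOf_dvd_card' (G := G ⧸ K) 5 h5Q
      obtain ⟨m, hm⟩ := h5Q
      have h5m : ¬ 5 ∣ m := fun h => by
        have : 5 * 5 ∣ 2520 := ((mul_dvd_mul_left 5 h).trans (hm ▸ dvd_rfl)).trans hQn
        norm_num at this
      have hexc5 : ∀ r i : ℕ, r.Prime → r ≠ 5 → r ^ (i + 1) ∣ Nat.card (G ⧸ K) → r ^ (i + 1) % 5 = 1 →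
          r ^ (i + 1) = 0 ∧ ¬ r ^ (i + 2) ∣ Nat.card (G ⧸ K) := by
        intro r i hr hr5 hd h1
        exfalso
        have hd' := hd.trans hQn
        have key : ∀ r ∈ List.range 20, ∀ i ∈ List.range 5, Nat.Prime r → 2520 % r ^ (i + 1) = 0 →
            r ^ (i + 1) % 5 ≠ 1 := by decide +kernel
        have hr20 : r < 20 := by
          have h2520r : r ∣ 2 ^ 3 * (3 ^ 2 * (5 * 7)) := (dvd_pow_self r (Nat.succ_ne_zero i)).trans hd'
          rcases hr.dvd_mul.1 h2520r with h | h
          · rw [(Nat.prime_dvd_prime_iff_eq hr Nat.prime_two).1 (hr.dvd_of_dvd_pow h)]; norm_num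
          rcases hr.dvd_mul.1 h with h | h
          · rw [(Nat.prime_dvd_prime_iff_eq hr Nat.prime_three).1 (hr.dvd_of_dvd_pow h)]; norm_num
          rcases hr.dvd_mul.1 h with h | h <;> have := Nat.le_of_dvd (by norm_num) h <;> omega
        have hi : i < 5 := by
          by_contra hge
          have hlist : ∀ r ∈ List.range 20, Nat.Prime r → ¬ 2520 % r ^ 6 = 0 := by decide +kernel
          exact hlist r (List.mem_range.2 hr20) hr
            (Nat.mod_eq_zero_of_dvd ((pow_dvd_pow r (show 6 ≤ i + 1 by omega)).trans hd'))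
        exact key r (List.mem_range.2 hr20) i (List.mem_range.2 hi) hr (Nat.mod_eq_zero_of_dvd hd') h1
      rcases centralizes_or_exists (p := 5) (m := m) rfl hm h5m hexc5 hy L h5L with
        hc | ⟨r, A, hr, hrn, hA, hab, hidx⟩
      · -- the centraliser of `L` contains `L`
        have hyC : y ∈ centralizer (L : Set (G ⧸ K)) := mem_centralizer_iff.2 fun l hl =>
          mem_centralizer_singleton_iff.1 (hc hl)
        have hne : centralizer (L : Set (G ⧸ K)) ≠ ⊥ := fun h => by
          rw [h, mem_bot] at hyC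
          rw [hyC, orderOf_one] at hy
          omega
        have hLC := hmin _ inferInstance hne
        exact hLc (isMulCommutative_iff.2 fun a b => Subtype.ext (mem_centralizer_iff.1 (hLC b.2) a a.2))
      · have hne : A ≠ ⊥ := fun h => hidx (by rw [h, index_bot]; exact hrn)
        have hLA := hmin A hA hne
        exact hLc (isMulCommutative_iff.2 fun a b => Subtype.ext (hab a (hLA a.2) b (hLA b.2)))

end Cfsg.Agent.DegreeGraphSmall
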