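import Cfsg.Agent.Lib.DegreeGraphSmall.Basic
import Cfsg.Agent.Lib.DegreeGraphSmall.Orders
import Cfsg.Agent.S4774
import Cfsg.Agent.S4812
import Mathlib.GroupTheory.SpecificGroups.Alternating.Centralizer

/-!
# The degree primes and the needed edges of the simple groups of order below 6000
-/

set_option autoImplicit false
set_option linter.style.haveILetI false

namespace Cfsg.Agent.DegreeGraphSmall

open Cfsg Cfsg.Agent
open scoped MatrixGroups

universe u

variable {S : Type u} [Group S] [Finite S] [IsSimpleGroup S]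

theorem not_comm_of_card {n : ℕ} (hn : n ∈ orderList) (hS : Nat.card S = n) : ¬ IsMulCommutative S := fun h => by
  haveI := h
  have hp := CharInt.card_prime_of_simple_comm (G := S) (fun a b => mul_comm' a b)
  rw [hS] at hp
  simp only [orderList, List.mem_cons, List.not_mem_nil, or_false] at hn
  rcases hn with rfl | rfl | rfl | rfl | rfl | rfl | rfl | rfl | rfl | rfl | rfl <;> norm_num at hp

/-- Vertices and edges for the groups `PSL(2, q)`. -/
theorem psl_graph {n q : ℕ} (hnq : (n, q) ∈ pslList) (hS : Nat.card S = n) :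
    degreePrimes S = {r : ℕ | r.Prime ∧ r ∣ q * (q ^ 2 - 1)} ∧
    ∀ r s : ℕ, (degreeGraph S).Adj r s ↔
      (r ≠ s ∧ r.Prime ∧ s.Prime ∧ if 2 ∣ q then ((r ∣ q + 1 ∧ s ∣ q + 1) ∨ (r ∣ q - 1 ∧ s ∣ q - 1))
        else (r ∣ q ^ 2 - 1 ∧ s ∣ q ^ 2 - 1 ∧
          (r = 2 ∨ s = 2 ∨ (r ∣ q + 1 ∧ s ∣ q + 1) ∨ (r ∣ q - 1 ∧ s ∣ q - 1)))) := by
  obtain ⟨p, hp, k, _, hq, hF, he⟩ := exists_psl hnq hS
  have hk : k ≠ 0 := fun h => by
    subst h
    rw [pow_zero] at hq
    subst hq
    simp [pslList] at hnq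
  have hq4 : 4 ≤ q ∧ (¬ 2 ∣ q → 5 < q) := by
    simp only [pslList, List.mem_cons, List.not_mem_nil, or_false, Prod.mk.injEq] at hnq
    rcases hnq with ⟨-, rfl⟩ | ⟨-, rfl⟩ | ⟨-, rfl⟩ | ⟨-, rfl⟩ | ⟨-, rfl⟩ | ⟨-, rfl⟩ | ⟨-, rfl⟩ | ⟨-, rfl⟩ |
      ⟨-, rfl⟩ <;> norm_num
  by_cases h2 : 2 ∣ q
  · have hp2 : p = 2 := ((Nat.prime_dvd_prime_iff_eq Nat.prime_two hp.out).1
      (Nat.prime_two.dvd_of_dvd_pow (hq ▸ h2))).symm
    subst hp2
    obtain ⟨h, h'⟩ := Cfsg.Agent.S4812.result (GaloisField 2 k) q hF hq4.1 (S := S) (Or.inl he)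
    exact ⟨h, fun r s => by rw [if_pos h2]; exact h' r s⟩
  · have hp2 : p ≠ 2 := fun h => h2 (by rw [← hq, h]; exact dvd_pow_self 2 hk)
    obtain ⟨h, h'⟩ := Cfsg.Agent.S4774.result (GaloisField p k) p hp2 q hF (hq4.2 h2) (S := S) (Or.inl he)
    exact ⟨h, fun r s => by rw [if_neg h2]; exact h' r s⟩

open Equiv in
/-- Representatives of eight classes of `A₇`. -/
def altElems : List (Perm (Fin 7)) :=
  [1, swap 0 1 * swap 1 2, (swap 0 1 * swap 1 2) * (swap 3 4 * swap 4 5), swap 0 1 * swap 2 3,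
    (swap 0 1 * swap 1 2 * swap 2 3) * swap 4 5, swap 0 1 * swap 1 2 * swap 2 3 * swap 3 4,
    swap 0 1 * swap 1 2 * swap 2 3 * swap 3 4 * swap 4 5 * swap 5 6,
    (swap 0 1 * swap 1 2) * swap 3 4 * swap 5 6]

/-- A class invariant on `Perm (Fin 7)`. -/
def supportVec (g : Equiv.Perm (Fin 7)) : List ℕ := (List.range 7).map fun k => (g ^ (k + 1)).support.card

theorem supportVec_eq {g h : Equiv.Perm (Fin 7)} (hgh : IsConj g h) : supportVec g = supportVec h := by
  obtain ⟨c, rfl⟩ := isConj_iff.1 hgh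
  unfold supportVec
  refine List.map_congr_left fun k _ => ?_
  rw [conj_pow, Equiv.Perm.card_support_conj]

theorem eight_le_classes_alt : 8 ≤ Nat.card (ConjClasses (alternatingGroup (Fin 7))) := by
  classical
  have hmem : ∀ g ∈ altElems, g ∈ alternatingGroup (Fin 7) := by
    intro g hg
    simp only [altElems, List.mem_cons, List.not_mem_nil, or_false] at hg
    rw [Equiv.Perm.mem_alternatingGroup]
    rcases hg with rfl | rfl | rfl | rfl | rfl | rfl | rfl | rfl <;> decide +kernel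
  have hlen : altElems.length = 8 := rfl
  have hnd : (altElems.map supportVec).Nodup := by decide +kernel
  rw [← Nat.card_fin 8]
  refine Nat.card_le_card_of_injective
    (fun i : Fin 8 => ConjClasses.mk (⟨altElems[(i : ℕ)]'(by omega), hmem _ (List.getElem_mem _)⟩ :
      alternatingGroup (Fin 7))) ?_
  intro i j hij
  have h0 : IsConj (⟨altElems[(i : ℕ)]'(by omega), hmem _ (List.getElem_mem _)⟩ : alternatingGroup (Fin 7))
      ⟨altElems[(j : ℕ)]'(by omega), hmem _ (List.getElem_mem _)⟩ := ConjClasses.mk_eq_mk_iff_isConj.1 hij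
  have h := (alternatingGroup (Fin 7)).subtype.map_isConj h0
  have h' := supportVec_eq h
  have hi : (altElems.map supportVec)[(i : ℕ)]'(by simp [hlen]) = supportVec (altElems[(i : ℕ)]'(by omega)) :=
    List.getElem_map _
  have hj : (altElems.map supportVec)[(j : ℕ)]'(by simp [hlen]) = supportVec (altElems[(j : ℕ)]'(by omega)) :=
    List.getElem_map _
  exact Fin.ext ((hnd.getElem_inj_iff).1 (hi.trans (h'.trans hj.symm)))

/-- A cycle of length `p ∈ {5, 7}` has centraliser of order `p` in `A₇`. -/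
theorem exists_centralizer_alt {p : ℕ} [hp : Fact p.Prime] (hp' : p = 5 ∨ p = 7) :
    ∃ x : alternatingGroup (Fin 7), orderOf x = p ∧
      Nat.card (Subgroup.centralizer ({x} : Set (alternatingGroup (Fin 7)))) = p := by
  classical
  obtain ⟨g, hg, hct, hodd⟩ : ∃ g : Equiv.Perm (Fin 7), g ∈ alternatingGroup (Fin 7) ∧ g.cycleType = {p} ∧
      (p = 5 → ∃ w : Equiv.Perm (Fin 7), w * g = g * w ∧ w ∉ alternatingGroup (Fin 7)) := by
    rcases hp' with rfl | rfl
    · refine ⟨Equiv.swap 0 1 * Equiv.swap 1 2 * Equiv.swap 2 3 * Equiv.swap 3 4, ?_, by decide +kernel,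
        fun _ => ⟨Equiv.swap 5 6, by decide +kernel, ?_⟩⟩ <;>
      · rw [Equiv.Perm.mem_alternatingGroup]; decide +kernel
    · refine ⟨Equiv.swap 0 1 * Equiv.swap 1 2 * Equiv.swap 2 3 * Equiv.swap 3 4 * Equiv.swap 4 5 * Equiv.swap 5 6,
        ?_, by decide +kernel, fun h => absurd h (by norm_num)⟩
      rw [Equiv.Perm.mem_alternatingGroup]; decide +kernel
  have ho : orderOf g = p := by rw [← Equiv.Perm.lcm_cycleType, hct, Multiset.lcm_singleton, normalize_eq]
  have hC : Nat.card (Subgroup.centralizer ({g} : Set (Equiv.Perm (Fin 7)))) = (7 - p).factorial * p := by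
    rw [Equiv.Perm.nat_card_centralizer, hct, Fintype.card_fin, Multiset.sum_singleton, Multiset.prod_singleton,
      Multiset.toFinset_singleton, Finset.prod_singleton, Multiset.count_singleton_self, Nat.factorial_one, mul_one]
  set x : alternatingGroup (Fin 7) := ⟨g, hg⟩
  have hxo : orderOf x = p := by rw [← Subgroup.orderOf_coe]; exact ho
  set D := Subgroup.centralizer ({x} : Set (alternatingGroup (Fin 7)))
  set C := Subgroup.centralizer ({g} : Set (Equiv.Perm (Fin 7)))
  have hle : D.map (alternatingGroup (Fin 7)).subtype ≤ C := by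
    rintro _ ⟨y, hy, rfl⟩
    exact Subgroup.mem_centralizer_singleton_iff.2 (congrArg Subtype.val (Subgroup.mem_centralizer_singleton_iff.1 hy))
  have hDC : Nat.card D ∣ (7 - p).factorial * p := by
    rw [← hC]
    have h := Subgroup.card_dvd_of_le hle
    rwa [Subgroup.card_map_of_injective Subtype.coe_injective] at h
  have hpD : p ∣ Nat.card D := hxo ▸ Subgroup.orderOf_dvd_natCard _ (Subgroup.mem_centralizer_singleton_iff.2 rfl)
  refine ⟨x, hxo, ?_⟩
  rcases hp' with rfl | rfl
  · obtain ⟨w, hw, hwA⟩ := hodd rfl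
    have hne : Nat.card D ≠ 10 := fun h => by
      have heq : D.map (alternatingGroup (Fin 7)).subtype = C := Subgroup.eq_of_le_of_card_ge hle (by
        rw [Subgroup.card_map_of_injective Subtype.coe_injective, h, hC]; rfl)
      have hwC : w ∈ C := Subgroup.mem_centralizer_singleton_iff.2 hw
      rw [← heq] at hwC
      obtain ⟨y, -, rfl⟩ := hwC
      exact hwA y.2
    obtain ⟨c, hc⟩ := hpD
    have h10 : Nat.card D ∣ 10 := hDC
    have := Nat.le_of_dvd (by norm_num) h10
    rw [hc] at h10 hne this ⊢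
    have : c ≤ 2 := by omega
    interval_cases c <;> omega
  · have h7 : Nat.card D ∣ 7 := hDC
    exact Nat.dvd_antisymm h7 hpD

theorem mem_alt {p : ℕ} [hp : Fact p.Prime] (hp' : p = 5 ∨ p = 7) (hS : Nat.card S = 2520) :
    p ∈ degreePrimes S := by
  obtain ⟨e⟩ := Cfsg.Agent.S0984.result hS
  obtain ⟨x, hx, hC⟩ := exists_centralizer_alt hp'
  refine mem_degreePrimes_of_centralizer (x := e.symm x) (by rw [MulEquiv.orderOf_eq, hx]) ?_ ?_
  · rw [← hC]
    have hmap : (Subgroup.centralizer ({x} : Set (alternatingGroup (Fin 7)))).map e.symm.toMonoidHom =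
        Subgroup.centralizer ({e.symm x} : Set S) := by
      ext y
      rw [Subgroup.mem_map_equiv, Subgroup.mem_centralizer_singleton_iff, Subgroup.mem_centralizer_singleton_iff,
        ← e.symm.injective.eq_iff, map_mul, map_mul]
      simp
    rw [← hmap, Subgroup.card_map_of_injective e.symm.injective]
  · have hle : Nat.card (ConjClasses (alternatingGroup (Fin 7))) ≤ Nat.card (ConjClasses S) :=
      Nat.card_le_card_of_surjective _ (ConjClasses.map_surjective (f := e.toMonoidHom) e.surjective)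
    have := eight_le_classes_alt
    rcases hp' with rfl | rfl <;> omega

theorem two_three_mem_alt (hS : Nat.card S = 2520) : 2 ∈ degreePrimes S ∧ 3 ∈ degreePrimes S := by
  classical
  haveI : Fact (Nat.Prime 7) := ⟨by norm_num⟩
  haveI := Fintype.ofFinite S
  have hG := not_comm_of_card (n := 2520) (by decide) hS
  obtain ⟨P⟩ := (inferInstance : Nonempty (Sylow 7 S))
  obtain ⟨d, c, hmem, -, hC, hN, -⟩ :=
    SmallSimple.Below6233.exists_opt hG (p := 7) (m := 360) (by decide) hS (by norm_num) (by norm_num) P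
  rw [show SmallSimple.Below6233.opts 7 2520 360 = [(36, 5), (120, 1)] by decide +kernel] at hmem
  simp only [List.mem_cons, List.not_mem_nil, or_false, Prod.mk.injEq] at hmem
  have hrel : ∃ e, (e = 2 ∨ e = 3) ∧ (Subgroup.centralizer ((P : Subgroup S) : Set S)).relIndex
      (Subgroup.normalizer ((P : Subgroup S) : Set S)) = e := by
    have hle := Subgroup.centralizer_le_normalizer (((P : Subgroup S)) : Set S)
    have h := Subgroup.card_mul_index ((Subgroup.centralizer ((P : Subgroup S) : Set S)).subgroupOf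
      (Subgroup.normalizer ((P : Subgroup S) : Set S)))
    rw [Nat.card_congr (Subgroup.subgroupOfEquivOfLe hle).toEquiv, hC] at h
    refine ⟨_, ?_, rfl⟩
    rw [Subgroup.relIndex]
    rcases hmem with ⟨rfl, rfl⟩ | ⟨rfl, rfl⟩ <;> omega
  obtain ⟨e, he, hrel⟩ := hrel
  obtain ⟨M, hM⟩ := CharInt.exists_isPModular_of_prime (show Nat.Prime 7 by norm_num)
  haveI := hM.2.1
  obtain ⟨T, z, -, hT, ⟨θ, -, -, -, σ, hσ, hrelθ⟩, l, hl, hlZ⟩ := SmallSimple.Below3640.exists_degSol hG (p := 7) (m := 360) (e := e)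
    hS (by norm_num) (by rcases he with rfl | rfl <;> norm_num) hrel hM.2.2
  have key : ∀ e ∈ [2, 3], ∀ l ∈ SmallSimple.Below3640.degSols 7 360 e, ∀ r ∈ ([2, 3] : List ℕ),
      (l.any fun a : ℤ => decide (a % (r : ℤ) = 0)) = true ∨ (1 + l.sum) % (r : ℤ) = 0 := by decide +kernel
  have hget : ∀ r ∈ ([2, 3] : List ℕ), ∃ χ : IrrCharacter S, r ∣ Char.degree χ := by
    intro r hr
    rcases key e (by rcases he with rfl | rfl <;> simp) l hl r hr with h | h
    · obtain ⟨a, hal, ha⟩ := List.any_eq_true.1 h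
      have ha' : a ∈ (l : Multiset ℤ) := hal
      rw [hlZ] at ha'
      obtain ⟨χ, hχ, rfl⟩ := Multiset.mem_map.1 ha'
      refine ⟨χ, ?_⟩
      have hd : (r : ℤ) ∣ z χ * (Char.degree χ : ℤ) := Int.dvd_of_emod_eq_zero (of_decide_eq_true ha)
      rcases (hT χ hχ).2.2.1 with h | h <;> rw [h] at hd <;>
        exact_mod_cast (by simpa using hd : (r : ℤ) ∣ (Char.degree χ : ℤ))
    · refine ⟨θ, ?_⟩
      have h1 := hrelθ 1 (by simp [IsPRegular])
      simp only [Char.apply_one_eq_degree] at h1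
      have hl' : l.sum = ∑ χ ∈ T, z χ * (Char.degree χ : ℤ) := by rw [← Multiset.sum_coe, hlZ]; rfl
      have h2 : (σ * (Char.degree θ : ℤ)) = 1 + l.sum := by rw [hl']; exact_mod_cast h1
      have hd : (r : ℤ) ∣ σ * (Char.degree θ : ℤ) := h2 ▸ Int.dvd_of_emod_eq_zero h
      rcases hσ with h | h <;> rw [h] at hd <;>
        exact_mod_cast (by simpa using hd : (r : ℤ) ∣ (Char.degree θ : ℤ))
  obtain ⟨χ, hχ⟩ := hget 2 (by simp)
  obtain ⟨ψ, hψ⟩ := hget 3 (by simp)
  exact ⟨mem_degreePrimes Nat.prime_two hχ, mem_degreePrimes Nat.prime_three hψ⟩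

theorem mem_l33 (hS : Nat.card S = 5616) :
    2 ∈ degreePrimes S ∧ 3 ∈ degreePrimes S ∧ 13 ∈ degreePrimes S := by
  classical
  haveI := Fintype.ofFinite S
  haveI : Fact (Nat.Prime 13) := ⟨by norm_num⟩
  obtain ⟨a, b, θ, -, -, -, hda, hdb, -⟩ := Order5616.values hS
  refine ⟨mem_degreePrimes Nat.prime_two (χ := b) (by rw [hdb]; norm_num),
    mem_degreePrimes Nat.prime_three (χ := a) (by rw [hda]; norm_num), ?_⟩
  have hG := Order5616.not_comm hS
  obtain ⟨P⟩ := (inferInstance : Nonempty (Sylow 13 S))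
  obtain ⟨hP, hA, -, hidx⟩ := Order5616.thirteen_data hS P
  obtain ⟨D, T, z, hδ, hTc, hT, hz, htriv, -, hrest⟩ :=
    SmallSimple.exists_block hG hA hP hidx (s := 4) (by norm_num) (by norm_num) (by norm_num) (by norm_num)
  by_contra hnot
  -- every character is in the block, so the squares sum to too little
  have hcov : ∀ χ : IrrCharacter S, χ ∈ Finset.univ.image D.θ ∪ insert (Char.trivialChar S) T := by
    intro χ
    by_contra hχ
    simp only [Finset.mem_union, Finset.mem_image, Finset.mem_univ, true_and, Finset.mem_insert, not_or] at hχ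
    have hr : χ ∉ Set.range D.θ := fun ⟨i, hi⟩ => hχ.1 ⟨i, hi⟩
    have hz0 := hrest χ hr hχ.2.1 hχ.2.2
    haveI := Fintype.ofFinite (P : Subgroup S)
    obtain ⟨k, hk⟩ := Char.IsCharacter.exists_nat_classInner
      (Char.IsCharacter.restrict (Char.irr_isCharacter χ) (P : Subgroup S))
      (Char.irr_isCharacter (Char.trivialChar (P : Subgroup S)))
    simp only [classInner, Char.trivialChar_apply, map_one, mul_one, hP] at hk
    rw [Finset.sum_eq_single (1 : (P : Subgroup S)) (fun y _ hy => by rw [hz χ hr y hy, hz0]; simp) (by simp),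
      Subgroup.coe_one, Char.apply_one_eq_degree, inv_mul_eq_iff_eq_mul₀ (by norm_num)] at hk
    exact hnot (mem_degreePrimes (by norm_num) (χ := χ) ⟨k, by exact_mod_cast hk⟩)
  -- so the squares sum to `3` modulo `4` impossibly
  have htT : Char.trivialChar S ∉ T := fun h => (hT _ h).1 rfl
  obtain ⟨χ₁, χ₂, hne, rfl⟩ := Finset.card_eq_two.1 (show T.card = 2 by omega)
  have hsum := Char.sum_degree_sq (G := S)
  rw [hS, ← Finset.eq_univ_iff_forall.2 hcov, Finset.sum_union (Finset.disjoint_left.2 fun χ h1 h2 => by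
      obtain ⟨i, -, rfl⟩ := Finset.mem_image.1 h1
      rcases Finset.mem_insert.1 h2 with h | h
      · exact htriv ⟨i, h⟩
      · exact (hT _ h).2.1 ⟨i, rfl⟩),
    Finset.sum_image D.inj.injOn, Finset.sum_insert htT, Finset.sum_pair hne,
    Finset.sum_congr rfl (fun i _ => by
      rw [show Char.degree (D.θ i) = Char.degree (D.θ 0) from Nat.cast_injective (R := ℂ) (by
        rw [← Char.apply_one_eq_degree, ← Char.apply_one_eq_degree]; exact D.off_one i 0)]),
    Finset.sum_const, Finset.card_univ, Fintype.card_fin, smul_eq_mul,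
    show Char.degree (Char.trivialChar S) = 1 from Nat.cast_injective (R := ℂ) (by
      rw [← Char.apply_one_eq_degree, Char.trivialChar_apply, Nat.cast_one])] at hsum
  have key : ∀ d : ℕ, d ^ 2 % 4 = 0 ∨ d ^ 2 % 4 = 1 := fun d => by
    rw [Nat.pow_mod]
    have := Nat.mod_lt d (show 4 > 0 by norm_num)
    generalize d % 4 = r at this ⊢
    interval_cases r <;> simp
  have h1 := key (Char.degree χ₁)
  have h2 := key (Char.degree χ₂)
  generalize Char.degree χ₁ ^ 2 = a at hsum h1
  generalize Char.degree χ₂ ^ 2 = b at hsum h2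
  generalize Char.degree (D.θ 0) ^ 2 = c at hsum
  omega

/-- All prime divisors of the order are vertices. -/
theorem vertices {n r : ℕ} (hn : n ∈ orderList) (hS : Nat.card S = n) (hr : r.Prime) (hd : r ∣ n) :
    r ∈ degreePrimes S := by
  have hpsl : ∀ q, (n, q) ∈ pslList → n ∣ q * (q ^ 2 - 1) → r ∈ degreePrimes S := fun q hnq hq => by
    rw [(psl_graph hnq hS).1]
    exact ⟨hr, hd.trans hq⟩
  simp only [orderList, List.mem_cons, List.not_mem_nil, or_false] at hn
  rcases hn with rfl | rfl | rfl | rfl | rfl | rfl | rfl | rfl | rfl | rfl | rfl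
  · exact hpsl 4 (by decide) (by norm_num)
  · exact hpsl 7 (by decide) (by norm_num)
  · exact hpsl 9 (by decide) (by norm_num)
  · exact hpsl 8 (by decide) (by norm_num)
  · exact hpsl 11 (by decide) (by norm_num)
  · exact hpsl 13 (by decide) (by norm_num)
  · exact hpsl 17 (by decide) (by norm_num)
  · have hr7 : r ∈ [2, 3, 5, 7] := by
      have hle : r ≤ 2520 := Nat.le_of_dvd (by norm_num) hd
      rcases hr.dvd_mul.1 (show r ∣ 2 ^ 3 * (3 ^ 2 * (5 * 7)) from hd) with h | h
      · simp [(Nat.prime_dvd_prime_iff_eq hr Nat.prime_two).1 (hr.dvd_of_dvd_pow h)]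
      rcases hr.dvd_mul.1 h with h | h
      · simp [(Nat.prime_dvd_prime_iff_eq hr Nat.prime_three).1 (hr.dvd_of_dvd_pow h)]
      rcases hr.dvd_mul.1 h with h | h
      · simp [(Nat.prime_dvd_prime_iff_eq hr (by norm_num : Nat.Prime 5)).1 h]
      · simp [(Nat.prime_dvd_prime_iff_eq hr (by norm_num : Nat.Prime 7)).1 h]
    simp only [List.mem_cons, List.not_mem_nil, or_false] at hr7
    haveI := Fact.mk hr
    rcases hr7 with rfl | rfl | rfl | rfl
    · exact (two_three_mem_alt hS).1
    · exact (two_three_mem_alt hS).2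
    · exact mem_alt (Or.inl rfl) hS
    · exact mem_alt (Or.inr rfl) hS
  · exact hpsl 19 (by decide) (by norm_num)
  · exact hpsl 16 (by decide) (by norm_num)
  · rcases hr.dvd_mul.1 (show r ∣ 2 ^ 4 * (3 ^ 3 * 13) from hd) with h | h
    · exact (Nat.prime_dvd_prime_iff_eq hr Nat.prime_two).1 (hr.dvd_of_dvd_pow h) ▸ (mem_l33 hS).1
    rcases hr.dvd_mul.1 h with h | h
    · exact (Nat.prime_dvd_prime_iff_eq hr Nat.prime_three).1 (hr.dvd_of_dvd_pow h) ▸ (mem_l33 hS).2.1
    · exact (Nat.prime_dvd_prime_iff_eq hr (by norm_num : Nat.Prime 13)).1 h ▸ (mem_l33 hS).2.2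

end Cfsg.Agent.DegreeGraphSmall
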